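import Cfsg.Agent.Lib.SZ.Basic
import Cfsg.Agent.Lib.Core.SymFour

/-!
# `S3F G` holds if and only if the symmetric group of degree three is not involved in `G`
-/

set_option autoImplicit false

namespace Cfsg.Agent.SZ

open Subgroup Cfsg.Agent.Coprime Cfsg.Agent.OO
open scoped Pointwise

universe u

variable {G : Type u} [Group G] [Finite G] {g x : G}

theorem involves_of_inverted (h1 : x ^ 3 = 1) (x1 : x ≠ 1) (h2 : g * x * g⁻¹ = x⁻¹) :
    Involves (Equiv.Perm (Fin 3)) G := by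
  haveI := Fact.mk Nat.prime_three
  obtain ⟨t, t2, h3⟩ : ∃ t, PiElt {2} t ∧ t * x * t⁻¹ = x⁻¹ := by
    obtain ⟨j, hj⟩ := SEA.exists_sqrt (x := constt {2}ᶜ g)
      (IsPiNum.not_dvd (piElt_constt {2}ᶜ g) Nat.prime_two fun e => e rfl)
    have h3 : constt {2}ᶜ g ∈ 𝐂[x] := by
      rw [← hj, ← (Commute.refl _).mul_pow, ← pow_two, ← constt_pow]
      refine pow_mem (constt_mem _ (mem_cent1_iff_conj.2 ?_)) j
      rw [show g ^ 2 * x * (g ^ 2)⁻¹ = g * (g * x * g⁻¹) * g⁻¹ by rw [pow_two]; group, h2,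
        ← conj_inv, h2, inv_inv]
    refine ⟨_, piElt_constt {2} g, ?_⟩
    nth_rw 1 [← mem_cent1_iff_conj.1 h3]
    rw [← h2, constt_compl_eq]; group
  have ox : orderOf x = 3 := orderOf_eq_prime h1 x1
  have h4 := IsSdprod.of_coprime (K := zpowers x) (R := zpowers t) (zpowers_le.2
    (mem_norm_of_conj_le (by rw [conj_zpowers, h3, zpowers_inv]))) (coprime_of_isPGroup_ne
      (.of_card ((Nat.card_zpowers x).trans (ox.trans (pow_one 3).symm)))
      (isPGroup_zpowers_iff.2 t2) (by norm_num))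
  have h5 := h4.relIndex_right
  rw [Nat.card_zpowers, ox] at h5
  have hx := h4.left_le (mem_zpowers x)
  have ht := h4.right_le (mem_zpowers t)
  have h6 : ∀ i : ℕ, x ^ i ∈ zpowers t → x ^ i = 1 := fun i e =>
    h4.inf_eq.le ⟨pow_mem (mem_zpowers x) i, e⟩
  generalize zpowers x ⊔ zpowers t = K at h5 hx ht
  let θ := (Equiv.permCongrHom (Finite.equivFinOfCardEq h5)).toMonoidHom.comp
    (MulAction.toPermHom K (K ⧸ (zpowers t).subgroupOf K))
  have h7 : ∀ (p : ℕ) (y z : K), p.Prime → PiElt {p} (y : G) → (z : G)⁻¹ * (y * z) ∉ zpowers t →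
      p ∣ Nat.card θ.range := fun p y z hp hy e => by
    haveI := Fact.mk hp
    refine (dvd_card_of_isPGroup (isPGroup_zpowers_iff.2 (PiElt.map (x := y)
      (by rwa [PiElt, ← orderOf_coe]) θ)) (zpowers_ne_bot.2 fun e' => e ?_)).trans
      (card_dvd (zpowers_le.2 ⟨y, rfl⟩))
    have h8 : MulAction.toPermHom K (K ⧸ (zpowers t).subgroupOf K) y = 1 :=
      (map_eq_one_iff _ (Equiv.permCongrHom (Finite.equivFinOfCardEq h5)).injective).1 e'
    exact (QuotientGroup.eq (s := (zpowers t).subgroupOf K) (a := z) (b := y * z)).1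
      (DFunLike.congr_fun h8 (z : K ⧸ (zpowers t).subgroupOf K)).symm
  refine Core.involves_iff.2 ⟨K, θ, MonoidHom.range_eq_top.1 (eq_top_of_le_card _ ?_)⟩
  rw [Nat.card_perm, Nat.card_fin]
  refine Nat.le_of_dvd Nat.card_pos (Nat.Coprime.mul_dvd_of_dvd_of_dvd (m := 3) (n := 2)
    (by norm_num) (h7 3 ⟨x, hx⟩ 1 Nat.prime_three (by
      rw [PiElt, ox]; exact (isPiNum_prime Nat.prime_three).2 rfl) fun e =>
        x1 (by simpa using h6 1 (by simpa using e)))
    (h7 2 ⟨t, ht⟩ ⟨x⁻¹, inv_mem hx⟩ Nat.prime_two t2 fun e => x1 ?_))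
  have h8 := h6 2 (by
    rw [pow_two]
    nth_rw 2 [← inv_inv x]
    rw [← h3, conj_inv]
    simpa [mul_assoc] using mul_mem e (inv_mem (mem_zpowers t)))
  rw [← h1, pow_succ, h8, one_mul]

theorem s3f_iff : S3F G ↔ ¬ Involves (Equiv.Perm (Fin 3)) G := by
  refine ⟨fun h e => ?_, fun h N x g hx hg h1 h2 => by_contra fun e => h ?_⟩
  · obtain ⟨d, t, h1, -, h2⟩ := Core.exists_inverted_of_involves e
    simp [h.eq_one (h1 ▸ pow_orderOf_eq_one d) h2] at h1
  refine Core.involves_of_subgroup (Core.involves_of_quotient (involves_of_inverted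
    (x := coset N x) (g := coset N g) (by rw [← coset_pow hx, coset_eq_one h1])
    (mt (coset_eq_one_iff hx).1 e) (eq_inv_of_mul_eq_one_left ?_)) _ (cosetHom_surjective N))
  rw [← coset_conj hg hx, ← coset_mul (mul_mem (mul_mem hg hx) (inv_mem hg)) hx, coset_eq_one h2]

/-- it suffices that no element of order three is inverted -/
theorem s3f_of_not_real (h : ∀ y g : G, orderOf y = 3 → g * y * g⁻¹ ≠ y⁻¹) : S3F G :=
  s3f_iff.2 fun e => let ⟨d, t, h1, _, h2⟩ := Core.exists_inverted_of_involves e; h d t h1 h2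

theorem s3f_of_not_dvd (h : ¬ 3 ∣ Nat.card G) : S3F G :=
  s3f_of_not_real fun y _ e => (h (e ▸ orderOf_dvd_natCard y)).elim

end Cfsg.Agent.SZ
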