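import Cfsg.Agent.Lib.SZ.Clo
import Cfsg.Agent.Lib.SEA.Main

/-!
# Bender's theorem for groups not involving `S₃`, when the involutions of the strongly embedded
subgroup commute
-/

set_option autoImplicit false
set_option linter.unusedSectionVars false

namespace Cfsg.Agent.SZ

open Subgroup MulAction Cfsg.Agent.Coprime Cfsg.Agent.OO Cfsg.Agent.SEA
open scoped Pointwise

universe u

variable {G Ω : Type u} [Group G] [MulAction G Ω] [Finite G]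
  {a b c : Ω} {g k s t u : G} {E K M Q : Subgroup G}

namespace Fr

variable (h : Fr G a b u K) (hG : IsSimpleGroup G) (h3 : S3F G) (ih : IH.{u} (Nat.card G))
include h

theorem norm_eq (h1 : A G a ≤ Q) (h2 : Q ⊴ stabilizer G a) : 𝐍(Q) = stabilizer G a :=
  let ⟨_, hs, s1⟩ := h.exists_A a
  le_antisymm (fun _ hg => h.fix_of_conj hs s1 (h.mem_A.2 ⟨h2.le (conj_mem_of_norm hg (h1 hs)),
    BSW.conj_mul_self (h.sq hs)⟩)) h2.norm

theorem Kt_eq : BSW.Kt 𝐂(A G a) u = D G a b := Subgroup.ext fun k => by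
  rw [BSW.mem_Kt, h.norm_eq (Ab.le_cent (h.A_ab a)) (h.cent_normal a), mem_stabilizer_iff,
    mem_stabilizer_iff, mem_D]
  nth_rw 3 4 [← h.ub]
  rw [conj_fix_iff]

include hG h3 ih

theorem D_le : D G a b ≤ K := by
  have hS := h.cent_two hG h3 ih
  obtain ⟨s, hs, s1⟩ := h.exists_A a
  by_cases e : D G a b ⊓ 𝐂[s] = ⊥
  · intro d hd
    obtain ⟨k, hk, e'⟩ := h.exists_K hs s1 (conj_mem_of_norm (stab_le_norm a hd.1) hs)
      (BSW.conj_ne_one s1)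
    exact inv_mul_eq_one.1 (e.le (mem_inf.2 ⟨mul_mem (inv_mem (h.K_le hk)) hd,
      mem_cent1_iff_conj.2 (by
        rw [show k⁻¹ * d * s * (k⁻¹ * d)⁻¹ = k⁻¹ * (d * s * d⁻¹) * k by group, ← e']; group)⟩)) ▸ hk
  obtain ⟨d, hd, hp⟩ := exists_prime_order_mem e
  exact h.D_le_of_card h3 hS (h.card_eq_sq hG h3 ih hd.1 hp hs s1 (mem_cent1_comm.1 hd.2)) hG

theorem hypC : BSW.HypC 𝐂(A G a) u := by
  have hC := h.cent_normal a
  have hA := Ab.le_cent (h.A_ab a)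
  have key : ∀ z ∈ 𝐂(A G a), z ≠ 1 → z * z = 1 → ∀ g : G, g * z = z * g ↔ g ∈ 𝐂(A G a) :=
    fun z hz z1 z2 g => by
      have h1 := h.mem_A.2 ⟨hC.le hz, z2⟩
      refine ⟨fun e => ?_, fun e => (mem_cent_iff.1 e z h1).symm⟩
      obtain ⟨y, hy, d, hd, rfl⟩ := (h.isProd h3).mem_iff.1 (h.cent_le h1 z1 (mem_cent1.2 e))
      rwa [h.eq_one (h.D_le hG h3 ih hd) h1 z1 (mem_cent1.1 ((mul_mem_cancel_left
        (cent_le_cent1 h1 hy)).1 (mem_cent1.2 e))).symm, mul_one]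
  obtain ⟨s, hs, s1⟩ := h.exists_A a
  obtain ⟨k, hk, k1⟩ := h.exists_ne_one
  refine ⟨⟨key, s, hA hs, s1, h.sq hs⟩, fun x hx x1 g e => ?_, ⟨k, hC.norm (h.K_le' hk), fun e =>
    k1 (h.eq_one hk hs s1 (mem_cent_iff.1 e s hs))⟩, fun e => h.ne ?_, h.u2⟩
  · obtain ⟨_, ⟨i, rfl⟩, z1, z2⟩ := R1.exists_invol_mem (dvd_card_of_isPGroup
      ((h.cent_two hG h3 ih).to_le (zpowers_le.2 hx)) (zpowers_ne_bot.2 x1))
    exact (key _ (zpow_mem hx i) z1 z2 g).1 (Commute.zpow_right e i)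
  · exact (mem_stabilizer_iff.1 (h.norm_eq hA hC ▸ e)).symm.trans h.ua

theorem card_Kt : ♯(BSW.Kt 𝐂(A G a) u) + 1 = ♯(A G a) := by
  rw [h.Kt_eq, le_antisymm (h.D_le hG h3 ih) h.K_le, h.card_K, Nat.sub_add_cancel (card_pos' _)]

theorem card_cent : ♯𝐂(A G a) = ♯(A G a) ^ 2 := by
  have hS := h.cent_two hG h3 ih
  have hC := h.cent_normal a
  refine h.card_Kt hG h3 ih ▸ ((R1.zt1 G _ u (h.hypC hG h3 ih)).resolve_left fun e => ?_).2
  exact h.not_ab h3 (syl_of_max hC.le hS fun U h1 h2 hU => le_antisymm (h.le_cent h3 hU h2) h1)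
    (ab_of_le (h.A_ab a) fun x hx => h.mem_A.2 ⟨hC.le hx, e x hx⟩)

end Fr

theorem ih (n : ℕ) : IH.{u} n := by
  induction n with
  | zero => exact fun _ _ _ _ _ h => (Nat.not_lt_zero _ h).elim
  | succ n ih =>
  intro G Ω _ _ _ hn h3 h a
  replace ih : IH.{u} (Nat.card G) := fun X Y _ _ _ e => ih X Y (by omega)
  by_cases hk : (toPermHom G Ω).ker = ⊥
  swap
  · exact h.card_of_ker h3 ih hk a
  haveI := h.nontriv
  obtain ⟨b, hab⟩ := exists_ne a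
  obtain ⟨u, K, hK⟩ := h.exists_fr' hab.symm
  by_cases hG : IsSimpleGroup G
  · exact hK.card_cent hG h3 ih ▸ h.card_eq (hK.cent_two hG h3 ih) (h.cent_A_le a) hab.symm
      fun _ => h.cent_trans h3 hab.symm
  haveI : Nontrivial G := ⟨⟨u, 1, swap_ne_one hab.symm hK.ua⟩⟩
  obtain ⟨N, hN, h1⟩ : ∃ N : Subgroup G, N.Normal ∧ N ≠ ⊥ ∧ N ≠ ⊤ := by
    by_contra! e
    exact hG ⟨fun N hN => or_iff_not_imp_left.2 (e N hN)⟩
  obtain ⟨z, hz, z1, z2⟩ := R1.exists_invol_mem (H := N) (by_contra fun e => h1.1 (eq_bot_iff.2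
    (hk.le.trans' fun x hx => Equiv.ext fun c => h.fix_of_odd e le_rfl (h.four c)
      (le_top.trans (normalIn_top.2 hN).norm) hx)))
  obtain ⟨d, hd⟩ := h.ex z z2
  have key : ∀ c : Ω, A G c ≤ N := fun c t ht => by
    by_cases t1 : t = 1
    · exact t1 ▸ one_mem N
    obtain ⟨g, -, rfl⟩ := (h.mem_invs (h.mem_A.2 ⟨hd, z2⟩) z1 t).1 ⟨t1, h.sq ht⟩
    exact hN.conj_mem z hz g
  obtain ⟨t, ht, t1⟩ := h.exists_A b
  obtain ⟨Q, hQ, h4, h5, -, tr⟩ := h.sub h3 ih h1.2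
    (by rw [inf_eq_left.2 (key a)]; exact h.four a) hab.symm ⟨ht, key b ht⟩ t1
  rw [inf_eq_left.2 (key a)] at h5
  exact h5 ▸ h.card_eq hQ (h4.trans inf_le_left) hab.symm fun c hc =>
    let ⟨r, hr, r1⟩ := h.exists_A c; tr c hc r ⟨hr, key c hr⟩ r1

/-- the number of points -/
theorem Hyp.card (h : Hyp G Ω) (h3 : S3F G) (a : Ω) : Nat.card Ω = ♯(A G a) ^ 2 + 1 :=
  ih _ G Ω (Nat.lt_succ_self _) h3 h a

/-- a Sylow 2-subgroup of a point stabilizer is regular on the remaining points -/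
theorem Hyp.syl (h : Hyp G Ω) (h3 : S3F G) (hQ : Syl 2 Q (stabilizer G a)) :
    ♯Q = ♯(A G a) ^ 2 ∧ Sq (A G a) Q ∧ Q ⊓ 𝐂(Q) ≤ A G a ∧
      ∀ b c, a ≠ b → a ≠ c → ∃ y ∈ Q, y • b = c := by
  haveI := h.nontriv
  obtain ⟨b, hab⟩ := exists_ne a
  obtain ⟨P, h1, h2, h4, -, tr⟩ := h.exists_Q h3 (h.card h3 a) hab.symm
  have h5 := h.syl_of_trans h1 hab.symm h2 le_rfl fun g hg => tr _ fun e =>
    hab.symm (smul_left_cancel g (hg.trans e))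
  have h6 := (hQ.card_eq_card h5).trans h4
  have h7 := h.le_cent h3 hQ.isPGroup hQ.le
  obtain ⟨h8, h9⟩ := h.sq_of_card hQ.isPGroup (h.A_le_syl hQ (h.A_le a) le_rfl) h7 h6
    fun s hs s1 t ht t1 => by
      obtain ⟨g, hg, rfl⟩ := (h.mem_sharp_iff hs s1 t).1 ⟨ht, t1⟩
      obtain ⟨c, hc, n, hn, rfl⟩ := ((hQ.mono h7 (h.cent_A_le a)).frattini
        (h.cent_normal a)).mem_iff.1 hg
      refine ⟨n, hn.2, ?_⟩
      rw [← mem_cent_iff_conj.1 hc _ (conj_mem_of_norm (stab_le_norm a hn.1) hs)]; group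
  refine ⟨h6, h8, h9 (h.not_ab h3 hQ), fun b c hb hc => ?_⟩
  obtain ⟨g, hg, rfl⟩ := h5.exists_conj' hQ
  have ne : ∀ c, a ≠ c → a ≠ g⁻¹ • c := fun c hc e => hc (hg.symm.trans (eq_inv_smul_iff.1 e))
  obtain ⟨y, hy, e⟩ := tr _ (ne b hb)
  obtain ⟨z, hz, e'⟩ := tr _ (ne c hc)
  exact ⟨_, conj_mem_conj (mul_mem hz (inv_mem hy)), by
    rw [mul_smul, mul_smul, mul_smul, ← e, inv_smul_smul, e', smul_inv_smul]⟩

theorem hyp_of_se (hM : ZL.SE M)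
    (hc : ∀ s ∈ M, ∀ t ∈ M, s * s = 1 → t * t = 1 → s * t = t * s)
    (h4 : ∃ s ∈ M, ∃ t ∈ M, s ≠ 1 ∧ t ≠ 1 ∧ s ≠ t ∧ s * s = 1 ∧ t * t = 1) : Hyp G (G ⧸ M) := by
  have hp : Pre G (G ⧸ M) := ⟨fun t t2 => by
      obtain ⟨S, hS⟩ := exists_syl 2 M
      obtain ⟨g, -, e⟩ := (hM.syl hS).exists_conj_le (le_top : zpowers t ≤ ⊤)
        (.of_card_dvd_pow (n := 1) (by
          rw [Nat.card_zpowers]; exact orderOf_dvd_of_pow_eq_one (by rwa [pow_one, pow_two])))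
      exact ⟨(g⁻¹ : G), smul_mk_iff.2 (by simpa using hS.le (e (conj_mem_conj (mem_zpowers t))))⟩,
    fun {t a b} t1 t2 => QuotientGroup.induction_on a fun g => QuotientGroup.induction_on b
      fun k e e' => (QuotientGroup.eq.2 (hM.mem (smul_mk_iff.1 e) ((orderOf_conj _ _).trans
        (orderOf_eq_prime (by rwa [pow_two]) t1)) (by
          simpa [mul_assoc] using smul_mk_iff.1 e'))).symm,
    fun {s t a} s2 t2 => QuotientGroup.induction_on a fun g e e' => by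
      have := hc _ (smul_mk_iff.1 e) _ (smul_mk_iff.1 e') (BSW.conj_mul_self s2)
        (BSW.conj_mul_self t2)
      rwa [conj_mul, conj_mul, mul_left_inj, mul_right_inj] at this⟩
  obtain ⟨g, -, hg⟩ := SetLike.exists_of_lt hM.ne.lt_top
  refine ⟨hp, exists_smul_eq G, ⟨(1 : G), g, fun e => hg (by simpa using QuotientGroup.eq.1 e)⟩,
    fun c => ?_⟩
  obtain ⟨g, rfl⟩ := exists_smul_eq G ((1 : G) : G ⧸ M) c
  obtain ⟨s, hs, t, ht, s1, t1, e, s2, t2⟩ := h4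
  rw [← conj_A, card_conj]
  exact two_lt_card (hp.mem_A.2 ⟨smul_mk_iff.2 (by simpa), s2⟩)
    (hp.mem_A.2 ⟨smul_mk_iff.2 (by simpa), t2⟩) s1 t1 e

theorem Hyp.sz (h : Hyp G Ω) (h3 : S3F G) (hG : IsSimpleGroup G) :
    ∃ (S : Subgroup G) (t : G) (m : ℕ), 1 ≤ m ∧ BSW.HypC S t ∧ ♯S = (2 ^ (2 * m + 1)) ^ 2 ∧
      ♯(BSW.Kt S t) + 1 = 2 ^ (2 * m + 1) ∧
      Nonempty (G ≃* Lie.Sz (GaloisField 2 (2 * m + 1)) (2 ^ (m + 1))) := by
  obtain ⟨a, b, hab⟩ := h.nontriv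
  obtain ⟨u, K, hK⟩ := h.exists_fr' hab
  have ih := ih.{u} (Nat.card G)
  have h1 := hK.card_cent hG h3 ih
  have h2 := hK.card_Kt hG h3 ih
  obtain ⟨m, h4, h5, -, h6⟩ := (hK.hypC hG h3 ih).suzuki (hK.cent_two hG h3 ih) (h2 ▸ h1)
  exact ⟨_, u, m, h4, hK.hypC hG h3 ih, h5, h2.trans (Nat.pow_left_injective two_ne_zero
    (h1.symm.trans h5)), h6⟩

end Cfsg.Agent.SZ
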