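import Cfsg.Agent.Lib.SZ.Pair

/-!
# The principal 2-block when `C(A)` has a normal 2-complement
-/

set_option autoImplicit false
set_option linter.unusedSectionVars false

namespace Cfsg.Agent.SZ

open Subgroup MulAction Cfsg.Agent.Coprime Cfsg.Agent.OO Cfsg.Agent.ODD Cfsg.Agent.Blk
  Cfsg.Agent.SEA
open scoped Pointwise

universe u

variable {G Ω : Type u} [Group G] [MulAction G Ω] [Finite G] {a b : Ω} {u : G} {K N : Subgroup G}

theorem Fr.false_of_normal (h : Fr G a b u K) (h3 : S3F G) (hG : IsSimpleGroup G)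
    (hP : PNil 2 𝐂(A G a)) (hN : N ≤ Op' 2 𝐂(A G a)) (N1 : N ≠ ⊥) (hM : stabilizer G a ≤ 𝐍(N))
    (hD : N ⊓ D G a b = ⊥) : False := by
  obtain ⟨s, hs, s1⟩ := h.exists_A a
  obtain ⟨S, hS⟩ := exists_syl 2 𝐂(A G a)
  have hAC : A G a ≤ 𝐂(A G a) := Ab.le_cent (h.A_ab a)
  have hC := h.cent_normal a
  have hAS := h.A_le_syl hS hAC hC.le
  have hY := hP.sdprod hS
  have hYM : Op' 2 𝐂(A G a) ⊴ stabilizer G a := hC.Opi _
  have ho := not_dvd_Op' (p := 2) 𝐂(A G a)
  generalize Op' 2 𝐂(A G a) = Y at hN hY hYM ho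
  have hK := h.K_le'.trans hM
  have semi : Semiregular N K := semiregular_iff.2 fun k hk k1 y hy e =>
    hD.le ⟨hy, h.cent_K hk k1 (hYM.le (hN hy)) e.symm⟩
  have hNC := hN.trans hY.left_le
  have hNo : ¬ 2 ∣ ♯N := fun e => ho (e.trans (card_dvd hN))
  have hNS : IsSdprod N S (N ⊔ S) := .of_sup ((hS.le.trans hC.le).trans hM)
    (eq_bot_iff.2 (hY.inf_eq.le.trans' (inf_le_inf_right _ hN)))
  obtain ⟨n, -, hn⟩ := h.exists_card a
  have h4 := h.four_le a
  have deg : ∀ χ ∈ B0 2 (⊤ : Subgroup G), χ ≠ cf1 ⊤ → (♯S * ♯K : ℝ) ≤ ‖χ 1‖ := fun χ e1 e2 => by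
    have hχ := isIrr_of_mem_B0 e1
    have h1 := (hχ.isChar.cfRes (le_top : N ≤ ⊤)).sub_constt (isIrr_cf1 N)
    obtain ⟨i, hi⟩ := Cnat_char1 h1
    obtain ⟨j, hj⟩ := Cnat_cfdot_char (hχ.isChar.cfRes (le_top : N ≤ ⊤)) (isChar_cf1 N)
    have h2 : i ≠ 0 := by
      rintro rfl
      have h2 := fun y => congr_fun (sub_eq_zero.1 ((char1_eq0 h1).1 (by simpa using hi))) y
      rcases (normalIn_top.1 (cfker_normal hχ.mem_CF)).eq_bot_or_eq_top with e | e
      · exact N1 (eq_bot_iff.2 fun y hy => e.le ((cfkerEchar hχ.isChar).2 ⟨mem_top y, by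
          rw [← cfResE χ hy, ← cfResE χ (one_mem N), h2, h2, Pi.smul_apply, Pi.smul_apply, cf1E hy,
            cf1_one]⟩))
      · exact e2 (hχ.le_cfker_iff.1 e.ge)
    rw [Pi.sub_apply, Pi.smul_apply, cf1_one, cfResE _ (one_mem N), smul_eq_mul, mul_one,
      cfdot_cfRes_left] at hi
    have h3 := Nat.le_of_dvd (Nat.pos_of_ne_zero h2) (Nat.Coprime.mul_dvd_of_dvd_of_dvd
      (coprime_of_isPGroup hS.isPGroup ((piGrp_compl_singleton Nat.prime_two).2
        (h.card_K ▸ h.odd_m a)))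
      (dvd_of_free hNS hχ.isChar hi fun t ht t1 y hy => by
        obtain ⟨g, z, hz, e⟩ := exists_conj_mul (hS.piGrp.piElt ht) hNo (hNS.normal.norm
          (mem_sup_right ht)) hy
        obtain ⟨i, hi⟩ := hS.isPGroup ⟨t, ht⟩
        have h5 := h.cent_le' (Nat.card_zpowers t ▸ dvd_card_of_isPGroup
          (hS.isPGroup.to_le (zpowers_le.2 ht)) (zpowers_ne_bot.2 t1)) (hC.le (hS.le ht))
        rw [e, cfunJ hχ.mem_CF (mem_top g)]
        exact apply_mul_eq_of_mem_B0 e1 (mem_top t) (congrArg Subtype.val hi)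
          (N := N ⊓ 𝐂[t]) ⟨inf_le_inf_right _ le_top, inf_le_right.trans
            (le_norm_inf (h5.trans hM) (le_norm_self _))⟩
          (fun e => hNo (e.trans (card_dvd inf_le_left))) hz)
      (dvd_of_free (.of_sup hK semi.inf_eq_bot) hχ.isChar hi fun k hk k1 y hy => by
        obtain ⟨z, -, e⟩ := Frob.exists_conj_of_fpf (hK hk) (semiregular_iff.1 semi k hk k1) hy
        rw [← e, cfunJ hχ.mem_CF (mem_top z)]))
    rw [cfdot_cfRes_left] at hj
    rw [eq_add_of_sub_eq hi, hj]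
    exact_mod_cast h3.trans (Nat.le_add_right i j)
  have hH := h.cent_le hs s1
  have p1 : (0 : ℝ) < Nat.card G := by exact_mod_cast Nat.card_pos
  have p2 : (0 : ℝ) < ♯(stabilizer G a) := by exact_mod_cast card_pos' _
  have p3 : (4 : ℝ) ≤ ♯(A G a) := by exact_mod_cast h4
  have p4 : (0 : ℝ) < ♯S := by exact_mod_cast card_pos' _
  have hK' : (♯K : ℝ) = ♯(A G a) - 1 := by rw [h.card_K, Nat.cast_sub (by omega), Nat.cast_one]
  have c1 : ∀ (X : Set G) (i j : ℕ), (∀ x ∈ X, x • a = a ∧ 2 ∣ orderOf x) →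
      i * ♯(stabilizer G a) ≤ j * (♯(A G a) * X.ncard) → (i : ℝ) ≤
      j * (({x : G | 2 ∣ orderOf x}.ncard : ℝ) / Nat.card G * ♯(A G a)) := fun X i j h1 h2 => by
    have h3 := h.card_mul_le h1
    rw [div_mul_eq_mul_div, mul_div_assoc', le_div_iff₀ p1]
    refine le_of_mul_le_mul_right ?_ p2
    exact_mod_cast (by nlinarith [Nat.mul_le_mul_left (j * ♯(A G a)) h3,
      Nat.mul_le_mul_left (Nat.card G) h2] : i * Nat.card G * ♯(stabilizer G a) ≤
        j * ({x : G | 2 ∣ orderOf x}.ncard * ♯(A G a)) * ♯(stabilizer G a))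
  have c2 : ♯(A G a) ^ 2 * (♯(A G a) - 1) ≤ (Invs G).ncard := by
    haveI := h.finite
    rw [h.ncard_invs a, ← h.index_stab b, ← relIndex_top_right]
    refine Nat.mul_le_mul_right _ (le_trans ?_ (relIndex_le_of_le_right (K := N ⊔ S) le_top
      (relIndex_pos _ _).ne'))
    have h1 := card_inf_mul_relIndex (stabilizer G b) (N ⊔ S)
    rw [show stabilizer G b ⊓ (N ⊔ S) = ⊥ from eq_bot_iff.2 fun x hx => ?_, card_bot, one_mul,
      ← hNS.card] at h1
    · have h2 := Nat.le_of_dvd (by have := one_lt_card N1; omega) (regular_norm_dvd_pred hK semi)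
      rw [h1, sq]
      exact Nat.mul_le_mul (by rw [h.card_K] at h2; omega) (card_le hAS)
    · have h2 : x ∈ D G a b := ⟨(sup_le (hN.trans hYM.le) (hS.le.trans hC.le)) hx.2, hx.1⟩
      refine hD.le ⟨PiGrp.le_of_relIndex ((piGrp_compl_singleton Nat.prime_two).2 (by
        rw [Nat.card_zpowers]; exact h.odd_of_mem_D h.ne h2)) (zpowers_le.2 hx.2) hNS.normal.norm
        (hNS.relIndex_left ▸ IsPiNum.compl_compl hS.piGrp) (mem_zpowers x), h2⟩
  have c3 := sum_B0_le (h.sq hs) (hYM.mono (le_inf le_top (hY.left_le.trans (cent_le_cent1 hs)))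
    (inf_le_right.trans hH)) ho
  have c4 := card_mul_relIndex (cent_le_cent1 hs)
  have c5 := card_mul_relIndex hH
  rw [h.relIndex_cent h.ne hs s1 inf_le_left le_rfl, ← h.card_K] at c5
  rw [← c4, ← hY.card, Nat.cast_mul, Nat.cast_mul, mul_assoc,
    mul_le_mul_iff_right₀ (by exact_mod_cast card_pos' Y)] at c3
  refine num (v := (𝐂(A G a)).relIndex 𝐂[s]) p3 ?_ ((h.ineq hs s1 (by
    rw [hK']; nlinarith) rfl deg).trans ?_) ?_ ?_
  · have : (♯(A G a) ^ 2 * (♯(A G a) - 1) : ℝ) ≤ (Invs G).ncard := by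
      rw [← hK', h.card_K]; exact_mod_cast c2
    rw [div_le_div_iff₀ (by nlinarith) (by positivity)]
    nlinarith
  · rw [hK', ← div_div]
    refine div_le_div_of_nonneg_right ?_ (by linarith)
    rw [div_le_iff₀ p4, mul_assoc, mul_comm _ (♯S : ℝ)]
    exact mul_le_mul_of_nonneg_left c3 (Real.sqrt_nonneg _)
  · by_cases e : (𝐂(A G a)).relIndex 𝐂[s] = 1
    · refine .inl ⟨by
        simpa using c1 ((𝐂(A G a) : Set G) \ Y) 1 1 (fun x hx => ⟨hC.le hx.1, by_contra fun e' =>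
          hx.2 (PiGrp.le_of_relIndex ((piGrp_compl_singleton Nat.prime_two).2
            (by rwa [Nat.card_zpowers])) (zpowers_le.2 hx.1) hY.normal.norm
            (hY.relIndex_left ▸ IsPiNum.compl_compl hS.piGrp) (mem_zpowers x))⟩) (by
          rw [Set.ncard_diff hY.left_le, ← Nat.card_coe_set_eq, ← Nat.card_coe_set_eq,
            SetLike.coe_sort_coe, SetLike.coe_sort_coe, ← c5, ← c4, e, ← hY.card, h.card_K]
          have h5 := Nat.mul_le_mul_left ♯Y (card_le hAS)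
          obtain ⟨q, hq⟩ : ∃ q, ♯(A G a) = q + 1 := ⟨♯(A G a) - 1, by omega⟩
          obtain ⟨m, hm⟩ : ∃ m, ♯S = m + 1 := ⟨♯S - 1, by have := card_pos' S; omega⟩
          rw [hq, hm] at h5 ⊢
          rw [mul_add_one ♯Y m, Nat.add_sub_cancel, Nat.add_sub_cancel]
          nlinarith), by exact_mod_cast e⟩
    · have h5 := h.relIndex_le h3 hn hs s1
      have h6 := h.odd_relIndex h3 hH
      have h7 := relIndex_pos 𝐂(A G a) 𝐂[s]
      refine .inr ⟨by
        simpa using c1 _ 5 3 (fun x hx => hx.1) (le_trans (by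
          obtain ⟨v, hv⟩ : ∃ v, (𝐂(A G a)).relIndex 𝐂[s] = v + 3 :=
            ⟨(𝐂(A G a)).relIndex 𝐂[s] - 3, by omega⟩
          rw [← c5, ← c4, hv, show v + 3 = v + 2 + 1 from rfl, mul_add_one, Nat.add_sub_cancel]
          nlinarith [Nat.zero_le (♯K * ♯𝐂(A G a) * v), Nat.zero_le (♯K * ♯𝐂(A G a))])
          (Nat.mul_le_mul_left 3 (h.count h3 hs s1))), ?_, ?_⟩
      · exact_mod_cast (Nat.pow_le_pow_left h5 2).trans (hn ▸ sq_le_two_pow (by omega))
      · exact_mod_cast hn ▸ Nat.pow_le_pow_right two_pos (show 3 ≤ n by omega)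
  · rw [div_le_one p1]
    exact_mod_cast Set.ncard_le_card _

end Cfsg.Agent.SZ
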