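import Cfsg.Agent.Lib.SZ.Ind
import Cfsg.Agent.Lib.R1.ZT
import Mathlib.NumberTheory.Multiplicity

/-!
# The order of `C(A)` when an element of the two point stabilizer centralizes an involution
-/

set_option autoImplicit false
set_option linter.unusedSectionVars false

namespace Cfsg.Agent.SZ

open Subgroup MulAction Cfsg.Agent.Coprime Cfsg.Agent.OO Cfsg.Agent.SEA
open scoped Pointwise commutatorElement

universe u

variable {G Ω : Type u} [Group G] [MulAction G Ω] [Finite G]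
  {a b c : Ω} {d g k r s t u w x y : G} {E H K N P Q S : Subgroup G} {p : ℕ}

theorem exists_prime {m n : ℕ} (h0 : 0 < m) (h1 : m < n) (hd : 2 ^ m - 1 ∣ 2 ^ n - 1) :
    ∃ r, r.Prime ∧ r ∣ 2 ^ n - 1 ∧ ¬ r ∣ 2 ^ m - 1 := by
  by_contra! h
  have h2 := Nat.gcd_eq_left hd
  rw [Nat.pow_sub_one_gcd_pow_sub_one] at h2
  obtain ⟨t, rfl⟩ : m ∣ n := Nat.gcd_eq_left_iff_dvd.1 (Nat.pow_right_injective le_rfl (by
    have := Nat.one_le_two_pow (n := m)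
    have := Nat.one_le_two_pow (n := m.gcd n)
    simp only; omega))
  obtain ⟨t, rfl⟩ : ∃ j, t = j + 2 := ⟨t - 2, by rcases t with _ | _ | t <;> simp_all⟩
  have h3 : 2 ∣ 2 ^ m := dvd_pow_self 2 h0.ne'
  have h4 : 1 < 2 ^ m := Nat.one_lt_two_pow h0.ne'
  rw [pow_mul] at h
  generalize 2 ^ m = y at h h3 h4
  have h5 : ∀ t, (y - 1) * (t + 2) + 1 < y ^ (t + 2) := fun t => by
    obtain ⟨z, rfl⟩ : ∃ z, y = z + 1 := ⟨y - 1, by omega⟩
    rw [Nat.add_sub_cancel]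
    induction t with
    | zero => rw [zero_add]; nlinarith
    | succ t ih => rw [pow_succ]; nlinarith [Nat.zero_le (z * (t + 2))]
  have h6 := h5 t
  have h7 : (y - 1) * (t + 2) ≠ 0 := mul_ne_zero (by omega) (by omega)
  refine absurd (Nat.le_of_dvd (Nat.pos_of_ne_zero h7) ((Nat.factorization_prime_le_iff_dvd
    (d := y ^ (t + 2) - 1) (by omega) h7).1 fun r hr => ?_)) (by omega)
  by_cases e : r ∣ y ^ (t + 2) - 1
  swap
  · simp [Nat.factorization_eq_zero_of_not_dvd e]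
  haveI := Fact.mk hr
  have h8 := h r hr e
  have h9 := padicValNat.pow_sub_pow (hr.odd_of_ne_two (by rintro rfl; omega)) h4 h8 (fun e =>
    hr.one_lt.ne' (Nat.dvd_one.1 ((Nat.dvd_add_right h8).1 (by rwa [Nat.sub_add_cancel h4.le]))))
    (n := t + 2) (by omega)
  rw [one_pow] at h9
  rw [Nat.factorization_def _ hr, Nat.factorization_def _ hr, h9, padicValNat.mul (by omega) (by omega)]

namespace Fr

variable (h : Fr G a b u K)
include h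

theorem card_K_cent (hd : d ∈ D G a b) (hs : s ∈ A G a) (s1 : s ≠ 1) (e : s ∈ 𝐂[d]) :
    ♯(K ⊓ 𝐂[d]) = ♯(A G a ⊓ 𝐂[d]) - 1 := by
  have h1 := card_inf_mul_relIndex 𝐂[s] (K ⊓ 𝐂[d])
  rw [show 𝐂[s] ⊓ (K ⊓ 𝐂[d]) = ⊥ from eq_bot_iff.2 fun k hk =>
    h.eq_one hk.2.1 hs s1 (mem_cent1.1 hk.1).symm, card_bot, one_mul,
    relIndex_centralizer_eq_ncard] at h1
  rw [← h1, ← ncard_sharp]
  congr 1
  refine Set.ext fun v => ⟨?_, fun hv => ?_⟩
  · rintro ⟨l, hl, rfl⟩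
    exact conj_mem_sharp (mem_norm_inf (stab_le_norm a (h.K_le' hl.1)) (le_norm_self _ hl.2))
      ⟨⟨hs, e⟩, s1⟩
  · obtain ⟨k, hk, rfl⟩ := h.exists_K hs s1 hv.1.1 hv.2
    refine ⟨k, ⟨hk, mem_cent1_comm.1 (mem_cent1_iff_conj.2 ((h.rg hs s1).eq
      (conj_mem_of_norm (h.norm_K hd) hk) hk ?_))⟩, rfl⟩
    nth_rw 1 [← mem_cent1_iff_conj.1 (mem_cent1_comm.1 e)]
    rw [← mem_cent1_iff_conj.1 (mem_cent1_comm.1 hv.1.2)]; group

theorem W_eq_bot (hS : IsPGroup 2 𝐂(A G a)) : 𝐂(A G a) ⊓ D G a b = ⊥ :=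
  (piGrp_singleton hS).inf_eq_bot ((piGrp_compl_singleton Nat.prime_two).2 (h.odd_D h.ne))

theorem card_pow (hS : IsPGroup 2 𝐂(A G a)) (hd : d ∈ D G a b) (hp : (orderOf d).Prime)
    (hs : s ∈ A G a) (s1 : s ≠ 1) (e : s ∈ 𝐂[d]) (hE : E ≤ 𝐂(A G a)) (hn : D G a b ≤ 𝐍(E)) :
    ♯E = ♯(E ⊓ 𝐂[d]) ^ orderOf d := by
  obtain ⟨n, -, h1⟩ := h.exists_card a
  obtain ⟨m, h2⟩ := ((h.A_two a).to_le (inf_le_left : A G a ⊓ 𝐂[d] ≤ _)).exists_card_eq
  have h3 := h.card_K_cent hd hs s1 e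
  obtain ⟨r, hr, h4, h5⟩ := exists_prime (m := m) (n := n) (Nat.pos_of_ne_zero (by
      rintro rfl
      exact s1 ((card_eq_one_iff.1 h2).le ⟨hs, e⟩)))
    ((Nat.pow_lt_pow_iff_right one_lt_two).1 (h1 ▸ h2 ▸ card_lt (inf_lt_left.2 fun e' =>
      hp.ne_one (orderOf_eq_one_iff.2 ((h.W_eq_bot hS).le ⟨le_cent1_iff.1 e', hd⟩)))))
    (by rw [← h1, ← h2, ← h3, ← h.card_K]; exact card_dvd inf_le_left)
  rw [← h1, ← h.card_K] at h4
  obtain ⟨k, hk, rfl⟩ := cauchy hr h4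
  have h6 : zpowers k ⊓ 𝐂(zpowers d) = ⊥ := inf_eq_bot_of_prime (by rwa [Nat.card_zpowers])
    fun e => h5 (h2 ▸ h3 ▸ orderOf_dvd_card ⟨hk, cent_zpowers d ▸ e (mem_zpowers k)⟩)
  have k1 : k ≠ 1 := mt orderOf_eq_one_iff.2 hr.ne_one
  have h7 := sup_le (zpowers_le.2 (h.K_le hk)) (zpowers_le.2 hd)
  have := (Frobenius_Wielandt_fixpoint ((prime_FrobeniusP (.of_sup (zpowers_le.2
    (norm_le_norm_of_isCyclic h.cyc (zpowers_le.2 hk) (h.norm_K hd))) (eq_bot_iff.2 (h6.le.trans'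
      (inf_le_inf_left _ (Ab.le_cent inferInstance))))) (zpowers_ne_bot.2 k1)
    (by rwa [Nat.card_zpowers])).2 h6) (h7.trans hn) (coprime_of_isPGroup (hS.to_le hE)
      (((piGrp_compl_singleton Nat.prime_two).2 (h.odd_D h.ne)).of_le h7))
    (sol_of_nil (hS.to_le hE).isNilpotent)).2.2 (eq_bot_iff.2 fun y hy => (h.W_eq_bot hS).le
      ⟨hE hy.1, h.cent_K hk k1 (h.cent_A_le a (hE hy.1)) (mem_cent1.1 (cent_zpowers k ▸ hy.2))⟩)
  rwa [cent_zpowers, Nat.card_zpowers] at this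

theorem higman (h3 : S3F G) (hS : IsPGroup 2 𝐂(A G a)) :
    ♯𝐂(A G a) = ♯(A G a) ^ 2 ∨ ♯𝐂(A G a) = ♯(A G a) ^ 3 := by
  have hC := h.cent_normal a
  have hA := Ab.le_cent (h.A_ab a)
  obtain ⟨h1, -, -, h2⟩ := R1.higman G _ K hS h.cyc (h.K_le'.trans hC.norm)
    (h.not_ab h3 (syl_of_max hC.le hS fun U h1 h2 hU => le_antisymm (h.le_cent h3 hU h2) h1))
    (let ⟨s, hs, t, ht, s1, t1, e⟩ := h.exists_two a
     ⟨s, hA hs, t, hA ht, e, s1, h.sq hs, t1, h.sq ht⟩)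
    fun x hx y hy x1 x2 y1 y2 => h.exists_K (h.mem_A.2 ⟨hC.le hx, x2⟩) x1
      (h.mem_A.2 ⟨hC.le hy, y2⟩) y1
  rwa [show ⁅𝐂(A G a), 𝐂(A G a)⁆ = A G a from Subgroup.ext fun x => (h1 x).trans
    ⟨fun e => h.mem_A.2 ⟨hC.le e.1, e.2⟩, fun e => ⟨hA e, h.sq e⟩⟩] at h2

theorem card_eq_sq (hG : IsSimpleGroup G) (h3 : S3F G) (ih : IH.{u} (Nat.card G))
    (hd : d ∈ D G a b) (hp : (orderOf d).Prime) (hs : s ∈ A G a) (s1 : s ≠ 1) (e : s ∈ 𝐂[d]) :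
    ♯𝐂(A G a) = ♯(A G a) ^ 2 := by
  have hS := h.cent_two hG h3 ih
  have hC := h.cent_normal a
  have h1 := h.card_pow hS hd hp hs s1 e le_rfl (inf_le_left.trans hC.norm)
  have h2 := h.card_pow hS hd hp hs s1 e (Ab.le_cent (h.A_ab a))
    (inf_le_left.trans (stab_le_norm a))
  obtain ⟨t, ht, t1, e'⟩ := h.good_elt hp ((isPiNum_prime hp).2 rfl) h.ne (h.smul_ne' hs h.ne)
    (h.smul_ne hs s1 h.ne).symm hd (by rw [← mul_smul, ← mem_cent1.1 e, mul_smul, hd.2]) hd.2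
  have ne : ∀ g ∈ stabilizer G a, a ≠ g • b := fun g hg e =>
    h.ne (smul_left_cancel g (hg.trans e))
  by_cases h4 : 2 < ♯(A G a ⊓ 𝐂[d])
  · obtain ⟨Q, hQ, h5, h6, -, tr⟩ := h.sub h3 ih (H := 𝐂[d]) (fun e => hp.ne_one
      (orderOf_eq_one_iff.2 (zpowers_eq_bot.1 (h.eq_bot hG (zpowers_le.2 hd.1)
        ((e.ge.trans (cent_zpowers d).ge).trans (cent_le_norm _)))))) h4 h.ne ⟨ht, e'⟩ t1
    have h7 := h.le_cent h3 hQ (h5.trans inf_le_left)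
    rw [h1, show 𝐂(A G a) ⊓ 𝐂[d] = Q from le_antisymm (fun y hy => ?_)
      (le_inf h7 (h5.trans inf_le_right)), h6, ← pow_mul, mul_comm, pow_mul, ← h2]
    obtain ⟨z, hz, e⟩ := tr _ (ne y (hC.le hy.1)) _ (mem_inf.2 ⟨conj_mem_A ht y,
      mul_mem (mul_mem hy.2 e') (inv_mem hy.2)⟩) (BSW.conj_ne_one t1)
    exact h.eq_of_smul_eq hS hC.le h.ne (h7 hz) hy.1 e ▸ hz
  refine (h.higman h3 hS).resolve_right fun h5 => ?_
  have h6 : ∀ x ∈ A G a ⊓ 𝐂[d], x ≠ 1 → x = s := fun x hx x1 => by_contra fun e1 =>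
    h4 (two_lt_card hx ⟨hs, e⟩ x1 s1 e1)
  have h7 : ♯(A G a ⊓ 𝐂[d]) = 2 := by
    have := one_lt_card (H := A G a ⊓ 𝐂[d]) fun e1 => s1 (e1.le ⟨hs, e⟩)
    omega
  rw [h1, h2, h7, ← pow_mul, mul_comm, pow_mul] at h5
  have h8 : (stabilizer G a).relIndex 𝐂[d] = 9 := by
    obtain ⟨w, -, h9, -, h10⟩ := h.exists_swap h.ne hs s1 ht t1
    rw [show (stabilizer G a).relIndex 𝐂[d] = _ from index_stabilizer _ a,
      show orbit 𝐂[d] a = insert a ((fun y : G => y • b) '' (𝐂(A G a) ⊓ 𝐂[d] : Subgroup G)) from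
        Set.ext fun c => ⟨fun ⟨g, e1⟩ => (eq_or_ne c a).imp_right fun e2 => by
          obtain ⟨y, hy, rfl⟩ := h.cent_trans h3 h.ne e2.symm
          refine ⟨y, ⟨hy, mem_cent1_comm.1 (mem_cent1_iff_conj.2 (h.eq_of_smul_eq hS hC.le h.ne
            (hC.conj_mem hd.1 hy) hy ?_))⟩, rfl⟩
          nth_rw 1 [← hd.2]
          rw [conj_smul_smul, ← show (g : G) • a = y • b from e1, ← mul_smul, ← mem_cent1.1 g.2,
            mul_smul, hd.1], by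
          rintro (rfl | ⟨y, hy, rfl⟩)
          · exact mem_orbit_self _
          · exact ⟨⟨y * w, mul_mem hy.2 (h10 _ e e')⟩, by rw [← h9]; exact mul_smul y w a⟩⟩,
      Set.ncard_insert_of_notMem
      (by exact fun ⟨y, hy, e⟩ => ne y (hC.le hy.1) e.symm) (by haveI := h.finite; toFinite_tac),
      Set.ncard_image_of_injOn
      fun x hx y hy => h.eq_of_smul_eq hS hC.le h.ne hx.1 hy.1, ← Nat.card_coe_set_eq,
      SetLike.coe_sort_coe, Nat.pow_left_injective hp.ne_zero h5]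
    rfl
  have h9 : ∀ x y : G, x * x = 1 → y * y = 1 → x * (x * y) * x⁻¹ = (x * y)⁻¹ ∧
      y * (x * y) * y⁻¹ = (x * y)⁻¹ := fun x y x2 y2 => by
    rw [mul_inv_rev, BSW.inv_eq_of_mul_self x2, BSW.inv_eq_of_mul_self y2]
    exact ⟨by rw [← mul_assoc, x2, one_mul], by rw [mul_assoc, mul_assoc, y2, mul_one]⟩
  obtain ⟨h10, h11⟩ := h9 t s (h.sq ht) (h.sq hs)
  have h12 : t ≠ s := fun e => h.smul_ne hs s1 h.ne (e ▸ h.fix ht)
  obtain ⟨_, ⟨i, rfl⟩, hl⟩ := exists_prime_order_mem (zpowers_ne_bot.2 fun e : t * s = 1 =>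
    h12 ((eq_inv_of_mul_eq_one_left e).trans (h.inv_eq hs)))
  have h13 := h.odd_mul h.ne hs s1 ht t1
  have h14 := zpow_mem (mul_mem e' e) i
  replace h10 := congrArg (· ^ i) h10
  replace h11 := congrArg (· ^ i) h11
  replace h13 : ¬ 2 ∣ orderOf ((t * s) ^ i) := fun e =>
    h13 (e.trans (orderOf_dvd_of_mem_zpowers ⟨i, rfl⟩))
  simp only [conj_zpow, inv_zpow] at h10 h11 hl
  generalize (t * s) ^ i = g at h10 h11 h13 h14 hl
  haveI := Fact.mk hl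
  obtain ⟨P, hP⟩ := exists_syl (orderOf g) (stabilizer G a ⊓ 𝐂[d])
  obtain ⟨v, hv, h15⟩ := (hP.trans inf_le_right (by
    rw [inf_relIndex_right, h8]
    exact fun e => h3.not_dvd h10 ((Nat.prime_dvd_prime_iff_eq hl Nat.prime_three).1
      (hl.dvd_of_dvd_pow (n := 2) e)).symm.dvd)).exists_conj_le (zpowers_le.2 h14)
    (.of_card ((Nat.card_zpowers g).trans (pow_one _).symm))
  have h16 := hP.le (h15 (conj_mem_conj (mem_zpowers g)))
  have key : ∀ w ∈ 𝐂[d], w ≠ 1 → w * w = 1 → w * g * w⁻¹ = g⁻¹ → v * w * v⁻¹ = s :=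
    fun w hw w1 w2 e1 => h6 _ (mem_inf.2 ⟨h.mem_A.2 ⟨by_contra fun e2 => hl.ne_one (by
      rw [← orderOf_conj v, orderOf_eq_one_iff]
      refine h.eq_one_of_inverted (BSW.conj_mul_self w2) e2 (by rwa [orderOf_conj]) (by
        rw [conj_inv (b := v) (a := g), ← e1]; group) hs s1 (mul_inv_eq_iff_eq_mul.1 (h6 _ (conj_mem_of_norm
          (mem_norm_inf (stab_le_norm a h16.1) (le_norm_self _ h16.2)) ⟨hs, e⟩)
          (BSW.conj_ne_one s1))).symm), BSW.conj_mul_self w2⟩,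
      mul_mem (mul_mem hv hw) (inv_mem hv)⟩) (BSW.conj_ne_one w1)
  exact h12 (by simpa using (key t e' t1 (h.sq ht) h10).trans (key s e s1 (h.sq hs) h11).symm)

end Fr

end Cfsg.Agent.SZ
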