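import Cfsg.Agent.Lib.SZ.Basic
import Cfsg.Agent.Lib.SEA.ClaimB
import Cfsg.Agent.Lib.R1.ZStar

/-!
# A `p`-subgroup with three fixed points centralizes an involution at each of its fixed points
-/

set_option autoImplicit false
set_option linter.unusedSectionVars false

namespace Cfsg.Agent.SZ

open Subgroup MulAction Cfsg.Agent.Coprime Cfsg.Agent.OO Cfsg.Agent.SEA
open scoped Pointwise

universe u v

variable {G : Type u} {Ω : Type v} [Group G] [MulAction G Ω] [Finite G]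
  {a b c : Ω} {d g k n s t u w x y : G} {H T X Y : Subgroup G} {p : ℕ}

theorem Pre.invol_of_swap (h : Pre G Ω) (hab : a ≠ b) (h1 : n • a = b) (h2 : n • b = a) :
    ∃ v ∈ zpowers n, v * v = 1 ∧ v • a = b := by
  have h3 : n * n ∈ D G a b := mem_D.2 ⟨by rw [mul_smul, h1, h2], by rw [mul_smul, h2, h1]⟩
  obtain ⟨j, hj⟩ : Odd (orderOf (n * n)) :=
    Nat.not_even_iff_odd.1 fun e => h.odd_of_mem_D hab h3 e.two_dvd
  refine ⟨(n * n) ^ j * n, mul_mem (pow_mem (mul_mem (mem_zpowers n) (mem_zpowers n)) j)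
    (mem_zpowers n), ?_, by rw [mul_smul, h1, (pow_mem h3 j).2]⟩
  rw [← pow_orderOf_eq_one (n * n), hj, ← pow_two, ← pow_two, ← pow_mul, ← pow_succ, ← pow_mul,
    ← pow_mul, mul_comm]

namespace Hyp

variable (h : Hyp G Ω) [hp : Fact p.Prime]
include h

theorem invol_of_syl (hab : a ≠ b) (hX : Syl p X (D G a b)) :
    ∃ v ∈ 𝐍(X), v * v = 1 ∧ v • a = b := by
  obtain ⟨u, hu, e⟩ := h.exists_swap' hab
  obtain ⟨d, hd, e'⟩ := hX.exists_conj' (hX.conj_of_norm (swap_norm hu e))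
  obtain ⟨v, hv, h1⟩ := h.invol_of_swap (n := d⁻¹ * u) hab
    (by rw [mul_smul, e, (inv_mem hd).2]) (by rw [mul_smul, swap hu e, (inv_mem hd).1])
  refine ⟨v, zpowers_le.2 ?_ hv, h1⟩
  rw [← conj_eq_self_iff, ← conj_conj, e', conj_conj, inv_mul_cancel, conj_eq_of_mem (one_mem X)]

section
variable (hX : IsPGroup p X)
  (ih : ∀ Y, X < Y → IsPGroup p Y → Big Ω Y → ∀ b : Ω, Y ≤ stabilizer G b → Good Y b)
include hX ih

theorem good_of_good (hb : X ≤ stabilizer G b) (ha : X ≤ stabilizer G a) (good : Good X a) :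
    Good X b := by
  by_contra bad
  obtain ⟨s, hs, s1, hsX⟩ := id good
  have hab : a ≠ b := by rintro rfl; exact bad good
  have hsN := cent_le_norm X hsX
  have h1 : Syl p X (D G b (s • b)) := by
    by_contra e
    obtain ⟨g, hg, e'⟩ := SEA.Hyp.exists_smul_of_not hX ih hb bad ha hab (fun e => by
      obtain ⟨v, hv, v2, e'⟩ := h.invol_of_syl hab.symm e
      exact bad (swap v2 e' ▸ good.smul hv)) (smul_fix_of_norm hsN hb) (h.smul_ne hs s1 hab) e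
    have e2 := (e' ▸ good.smul hg.1).smul hsN
    exact bad (by rwa [← mul_smul, h.sq hs, one_smul] at e2)
  have h2 := Coprime.card_modEq_card_inf_centralizer hX (hb.trans (stab_le_norm b))
  rw [show A G b ⊓ 𝐂(X) = ⊥ from
    eq_bot_iff.2 fun t ht => by_contra fun t1 => bad ⟨t, ht.1, t1, ht.2⟩, card_bot] at h2
  refine h1.not_dvd (Dvd.dvd.trans ?_ (relIndex_dvd_of_le_left _ (le_cent1_iff.2 hsX)))
  rw [h.relIndex_cent_swap (h.smul_ne hs s1 hab).symm (h.sq hs) rfl]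
  exact (Nat.modEq_iff_dvd' (card_pos' _)).1 h2.symm

theorem false_of_bad (hp2 : p ≠ 2) (big : Big Ω X)
    (bad : ∀ b : Ω, X ≤ stabilizer G b → ¬ Good X b) : False := by
  have h1 : ∀ v ∈ 𝐍(X), v * v = 1 → ∀ c : Ω, X ≤ stabilizer G c → v • c = c → v = 1 :=
    fun v hv v2 c hc e => by_contra fun v1 => bad c hc ⟨v, h.mem_A.2 ⟨e, v2⟩, v1, by
      refine mem_cent_iff_conj.2 fun x hx => mul_inv_eq_one.1 (mem_bot.1 ?_)
      rw [← inf_eq_bot_of_coprime_card (coprime_of_isPGroup_ne hX (h.A_two c) hp2)]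
      refine mem_inf.2 ⟨mul_mem (conj_mem_of_norm hv hx) (inv_mem hx), ?_⟩
      rw [mul_assoc, mul_assoc, ← mul_assoc x]
      exact mul_mem (h.mem_A.2 ⟨e, v2⟩) (conj_mem_of_norm (stab_le_norm c (hc hx))
        (inv_mem (h.mem_A.2 ⟨e, v2⟩)))⟩
  have h2 : ∀ s ∈ 𝐍(X), ∀ t ∈ 𝐍(X), s ≠ 1 → t ≠ 1 → s * s = 1 → t * t = 1 → t * s = s * t → s = t :=
    fun s hs t ht s1 t1 s2 t2 e => by_contra fun e' => by
      obtain ⟨c, hc⟩ := h.ex s s2
      have h3 := h.mem_A.2 ⟨hc, s2⟩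
      refine s1 (h1 s hs s2 c (h.fix_of_odd (H := A G c ⊓ 𝐍(X)) (fun e => ?_) inf_le_left
        (two_lt_card ⟨h3, hs⟩ ⟨h.mem_A.2 ⟨h.cent_le h3 s1 (mem_cent1.2 e), t2⟩, ht⟩ s1 t1 e')
        inf_le_right) hc)
      obtain ⟨k, hk⟩ := hX.exists_card_eq
      exact hp2 ((Nat.prime_dvd_prime_iff_eq Nat.prime_two hp.out).1
        (Nat.prime_two.dvd_of_dvd_pow (hk ▸ e))).symm
  have hO := not_dvd_Op' (p := 2) 𝐍(X)
  have hn : Op' 2 𝐍(X) ⊴ 𝐍(X) := (NormalIn.refl _).Opi _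
  have h3 : ∀ z ∈ 𝐍(X), z ≠ 1 → z * z = 1 → ∀ g ∈ 𝐍(X), g * z * g⁻¹ * z⁻¹ ∈ Op' 2 𝐍(X) :=
    fun z hz z1 z2 g hg => Op'_eq_map (p := 2) 𝐍(X) ▸ mem_map_of_mem _ (R1.zstar 𝐍(X) ⟨z, hz⟩
      (Subtype.ext z2) (fun k e => Subtype.ext (h2 _ (k * ⟨z, hz⟩ * k⁻¹).2 z hz (BSW.conj_ne_one z1)
        z1 (BSW.conj_mul_self z2) z2 (congrArg Subtype.val e))) ⟨g, hg⟩)
  generalize Op' 2 𝐍(X) = O at h3 hO hn
  obtain ⟨b0⟩ := h.nontriv.to_nonempty
  obtain ⟨b, hb, -⟩ := big b0 b0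
  obtain ⟨z, hz, z1, z2⟩ : ∃ z ∈ 𝐍(X), z ≠ 1 ∧ z * z = 1 := by
    by_contra e
    have h6 : ∀ a b : Ω, a ≠ b → ¬ Syl p X (D G b a) := fun a b hab e' => by
      obtain ⟨v, hv, v2, e'⟩ := h.invol_of_syl hab.symm e'
      exact e ⟨v, hv, swap_ne_one hab.symm e', v2⟩
    obtain ⟨a, ha, hab, -⟩ := big b b
    obtain ⟨c, hc, hca, hcb⟩ := big a b
    obtain ⟨g, hg, e1⟩ := SEA.Hyp.exists_smul_of_not hX ih hc (bad c hc) ha hca.symm (h6 _ _ hca.symm)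
      hb hcb.symm (h6 _ _ hcb.symm)
    have h7 : g • b ≠ b := fun e => hab (smul_left_cancel g (e1.trans e.symm))
    obtain ⟨k, hk, e2⟩ := SEA.Hyp.exists_smul_of_not hX ih hb (bad b hb) (smul_fix_of_norm hg.1 hb) h7
      (h6 _ _ h7) ha hab (h6 _ _ hab)
    obtain ⟨v, hv, v2, e3⟩ := h.invol_of_swap (n := k * g) hab (by rw [mul_smul, e1, hk.2])
      (by rw [mul_smul, e2])
    exact e ⟨v, zpowers_le.2 (mul_mem hk.1 hg.1) hv, swap_ne_one hab e3, v2⟩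
  have h4 : ∀ o ∈ O, ∀ c : Ω, X ≤ stabilizer G c → o • z • c ≠ c := fun o ho c hc e => by
    by_cases e2 : 2 ∣ orderOf (o * z)
    · obtain ⟨v, hv, v1, v2⟩ := R1.exists_invol_mem (Nat.card_zpowers (o * z) ▸ e2)
      exact v1 (h1 v (zpowers_le.2 (mul_mem (hn.le ho) hz) hv) v2 c hc
        (zpowers_le.2 (mem_stabilizer_iff.2 ((mul_smul o z c).trans e)) hv))
    obtain ⟨j, hj⟩ := exists_sqrt e2
    have e3 : o * z * (o * z) ∈ O := by
      rw [show o * z * (o * z) = o * (z * o * z⁻¹) * (z * z) by group, z2, mul_one]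
      exact mul_mem ho (hn.conj_mem hz ho)
    rw [← (Commute.refl _).mul_pow] at hj
    exact z1 (odd_sq_eq_one (fun e => hO (e.trans (orderOf_dvd_card
      ((O.mul_mem_cancel_left ho).1 (hj ▸ pow_mem e3 j))))) z2)
  have h5 : ∀ v ∈ 𝐍(X), v ≠ 1 → v * v = 1 → ∃ o ∈ O, o * z = v := fun v hv v1 v2 => by
    obtain ⟨c, hc⟩ := h.ex z z2
    obtain ⟨d, hd⟩ := h.ex v v2
    by_cases e : c = d
    · exact ⟨1, one_mem O, (one_mul z).trans (h2 z hz v hv z1 v1 z2 v2 (h.comm v2 z2 hd (e ▸ hc)))⟩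
    obtain ⟨w, -, -, e1, e2⟩ := h.exists_swap e (h.mem_A.2 ⟨hc, z2⟩) z1 (h.mem_A.2 ⟨hd, v2⟩) v1
    exact ⟨_, h3 z hz z1 z2 w (e2 _ hz hv), by rw [e1, inv_mul_cancel_right]⟩
  have h6 : ∀ a b : Ω, a ≠ b → Syl p X (D G b a) → ∃ o ∈ O, o • z • b = a := fun a b hab e => by
    obtain ⟨v, hv, v2, e'⟩ := h.invol_of_syl hab.symm e
    obtain ⟨o, ho, rfl⟩ := h5 v hv (swap_ne_one hab.symm e') v2
    exact ⟨o, ho, mul_smul o z b ▸ e'⟩
  have h7 : ∀ a : Ω, X ≤ stabilizer G a → ∀ o ∈ O, o • a ≠ a → ¬ Syl p X (D G a (o • a)) :=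
    fun a ha o ho e e' => by
      obtain ⟨o', ho', e1⟩ := h6 _ _ e e'
      exact h4 _ (mul_mem (inv_mem ho) ho') a ha (by rw [mul_smul, e1, inv_smul_smul])
  have h8 : ∀ b : Ω, X ≤ stabilizer G b → ∀ o ∈ O, o • b = b := fun b hb o ho => by
    by_contra e
    have ha := smul_fix_of_norm (hn.le ho) hb
    have e1 : o • o • b ≠ o • b := fun e' => e (smul_left_cancel o e')
    have e2 := h7 _ ha _ (inv_mem ho)
    rw [inv_smul_smul] at e2
    obtain ⟨k, hk, e3⟩ := SEA.Hyp.exists_smul_of_not hX ih ha (bad _ ha)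
      (smul_fix_of_norm (hn.le ho) ha) e1 (h7 _ ha o ho e1) hb (Ne.symm e) (e2 (Ne.symm e))
    obtain ⟨v, hv, v2, e4⟩ := h.invol_of_swap (n := k * o) (Ne.symm e) (by rw [mul_smul, hk.2])
      (by rw [mul_smul, e3])
    obtain ⟨o', ho', rfl⟩ := h5 v (zpowers_le.2 (mul_mem hk.1 (hn.le ho)) hv)
      (swap_ne_one (Ne.symm e) e4) v2
    exact h4 _ (mul_mem (inv_mem ho) ho') b hb (by rw [mul_smul, ← mul_smul o', e4, inv_smul_smul])
  have h9 : ∀ a : Ω, a ≠ b → a ≠ z • b → ¬ Syl p X (D G b a) := fun a e1 e2 e => by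
    obtain ⟨o, ho, e'⟩ := h6 a b e1 e
    exact e2 (e'.symm.trans (h8 _ (smul_fix_of_norm hz hb) o ho))
  obtain ⟨a, ha, e1, e2⟩ := big b (z • b)
  have e3 : z • a ≠ b := fun e => e2 (swap z2 e).symm
  obtain ⟨g, hg, e4⟩ := SEA.Hyp.exists_smul_of_not hX ih hb (bad b hb) ha e1 (h9 a e1 e2)
    (smul_fix_of_norm hz ha) e3 (h9 _ e3 fun e => e1 (smul_left_cancel z e))
  have e5 : a ≠ z • a := fun e => z1 (h1 z hz z2 a ha e.symm)
  obtain ⟨v, hv, v2, e6⟩ := h.invol_of_swap (n := g) e5 e4 (by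
    rw [← conj_smul_smul, ← inv_mul_cancel_right (g * z * g⁻¹) z, mul_smul, e4, swap z2 rfl,
      h8 a ha _ (h3 z hz z1 z2 g hg.1)])
  exact swap_ne_one e5 e6 (h1 v (zpowers_le.2 hg.1 hv) v2 b hb (zpowers_le.2 hg.2 hv))

end

theorem good (hp2 : p ≠ 2) (X : Subgroup G) : IsPGroup p X → Big Ω X →
    ∀ b : Ω, X ≤ stabilizer G b → Good X b := by
  induction X using WellFoundedGT.induction with
  | ind X ih =>
  intro hX big b hb
  by_contra e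
  exact h.false_of_bad hX ih hp2 big fun a ha good => e (h.good_of_good hX ih hb ha good)

end Hyp

end Cfsg.Agent.SZ
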