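import Cfsg.Agent.Lib.SZ.Card
import Cfsg.Agent.Lib.BSW.SzRel

/-!
# `S K ∪ S K u S` is a subgroup when `|S| = q ^ 2`
-/

set_option autoImplicit false
set_option linter.unusedSectionVars false

namespace Cfsg.Agent.SZ

open Subgroup MulAction Cfsg.Agent.Coprime Cfsg.Agent.OO Cfsg.Agent.SEA BSW
open scoped Pointwise

universe u

variable {G Ω : Type u} [Group G] [MulAction G Ω] [Finite G]
  {a b c : Ω} {d g k r s t u w x y : G} {E K S : Subgroup G}

theorem Fm.exists_quot {F : Type*} [Field F] {α κ v : F → G} (fm : Fm E K α κ) (sq : Sq E S)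
    (hE : E ≤ S) (hS : S ≤ 𝐂(E)) (hab : ¬ Ab S) (um : ∀ c, v c ∈ S) (u2 : ∀ c, v c * v c = α c)
    (u0 : v 0 = 1) (uconj : ∀ l, l ≠ 0 → ∀ c, κ l * v c * (κ l)⁻¹ = v (l * c))
    (hk : ∀ c d, c ≠ 0 → d ≠ 0 → c + d ≠ 0 → (v c)⁻¹ * v d ≠ v 1) (hx : x ∈ S) (h1 : x ∉ E) :
    ∃ c d, c ≠ d ∧ x = (v c)⁻¹ * v d := by
  have := fm.charP
  have := Finite.of_injective α fm.a_inj
  have two := CharTwo.two_eq_zero (R := F)
  have ac : ∀ c d, α c * v d = v d * α c := fun c d => mem_cent_iff.1 (hS (um d)) _ (fm.a_mem c)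
  have usq : ∀ c d, v c * α d * (v c * α d) = α c := fun c d => by
    rw [mul_assoc, ← mul_assoc (α d), ac, mul_assoc, fm.a_sq, mul_one, u2]
  have uinj : ∀ {c d c' d'}, v c * α d = v c' * α d' → c = c' ∧ d = d' := fun {c d c' d'} e => by
    have := usq c d
    rw [e, usq] at this
    obtain rfl := fm.a_inj this
    exact ⟨rfl, fm.a_inj (mul_left_cancel e)⟩
  have usurj : ∀ y ∈ S, ∃ c d, y = v c * α d := fun y hy => by
    obtain ⟨c, hc⟩ := fm.a_surj _ (sq.sq y hy)
    obtain ⟨d, hd⟩ := fm.a_surj _ (sq.inj _ (um c) y hy ((u2 c).trans hc))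
    exact ⟨c, d, by rw [hd, mul_inv_cancel_left]⟩
  choose s β hs using fun c d => usurj _ (mul_mem (um c) (um d))
  have mul3 : ∀ c d e f, v c * α e * (v d * α f) = v (s c d) * α (β c d + e + f) := fun c d e f => by
    rw [mul_assoc, ← mul_assoc (α e), ac, ← mul_assoc, ← mul_assoc, hs, fm.a_add, fm.a_add]; group
  have ua : ∀ c, v c = v c * α 0 := fun c => by rw [fm.a_zero, mul_one]
  have hass : ∀ c d e, s (s c d) e = s c (s d e) ∧
      β (s c d) e + β c d = β c (s d e) + β d e := fun c d e => by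
    have := mul_assoc (v c) (v d) (v e)
    rw [hs c d, hs d e, ua e, ua c, mul3, mul3] at this
    simpa using uinj this
  have hzero : ∀ c, s 0 c = c ∧ β 0 c = 0 := fun c => uinj (by rw [← hs, u0, one_mul, ← ua])
  have hself : ∀ c, s c c = 0 ∧ β c c = c := fun c => uinj (by rw [← hs, u0, one_mul, u2])
  have hsc : ∀ l c d, s (l * c) (l * d) = l * s c d ∧ β (l * c) (l * d) = l * β c d :=
    fun l c d => by
      by_cases hl : l = 0
      · simpa [hl] using hzero 0
      · refine uinj ?_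
        rw [← hs, ← uconj l hl, ← uconj l hl, ← uconj l hl, ← fm.k_conj l hl, conj_mul, conj_mul, hs]
  have hcomm : ∀ c d, s c d = s d c := fun c d => by
    have hi : ∀ c d, (v c * α d)⁻¹ = v c * α (c + d) := fun c d => by
      rw [inv_eq_iff_mul_eq_one, mul3, (hself c).1, (hself c).2, u0, one_mul, fm.a_eq_one_iff]
      linear_combination (c + d) * two
    have h1 := hi (s c d) (β c d)
    rw [← hs, mul_inv_rev, ua c, ua d, hi, hi, mul3] at h1
    exact (uinj h1).1.symm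
  have hΓ : ∀ c d, v d * v c = v c * v d * α (β c d + β d c) := fun c d => by
    rw [hs, hs, hcomm, mul_assoc, ← fm.a_add, CharTwo.add_cancel_left]
  have hsq : ∀ c d, s c d = c + d + (β c d + β d c) := fun c d => fm.a_inj (by
    rw [← usq _ (β c d), ← hs, fm.a_add, fm.a_add, ← usq c 0, ← usq d 0, ← ua, ← ua,
      mul_assoc (v c), ← mul_assoc (v d), hΓ, mul_assoc _ (α _), ac]
    group)
  have hadd : ∀ c d e, β (s c d) e + β e (s c d) = (β c e + β e c) + (β d e + β e d) :=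
    fun c d e => by
      have h1 := (hass c d e).2
      have h2 := (hass c e d).2
      have h3 := (hass e c d).2
      rw [hcomm e d] at h2
      rw [hcomm e c] at h3
      linear_combination h1 - h2 + h3 + (β e (s c d) - β e c - β e d) * two
  obtain ⟨c, d, hcd⟩ : ∃ c d, β c d + β d c ≠ 0 := by
    by_contra! h
    refine hab (ab_iff.2 fun x hx y hy => ?_)
    obtain ⟨c, d, rfl⟩ := usurj x hx
    obtain ⟨c', d', rfl⟩ := usurj y hy
    rw [mul3, mul3, hcomm, CharTwo.add_eq_zero.1 (h c c'), add_right_comm]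
  have key : ∀ x y, (β c d + β d c) * β x y =
      (β x y + β y x) * β c d + (β (c * y) (d * x) + β (d * x) (c * y)) := fun x y => by
    have h1 : v (c * x) * v (d * x) * (v (c * y) * v (d * y)) =
        v (c * x) * v (c * y) * α (β (c * y) (d * x) + β (d * x) (c * y)) *
          (v (d * x) * v (d * y)) := by
      rw [mul_assoc, ← mul_assoc (v (d * x)), hΓ, mul_assoc _ (α _), ac,
        mul_assoc _ (α _), ← mul_assoc (α _), ac, mul_assoc _ (α _), ac]
      group
    rw [hs, hs (c * y), hs (c * x), hs (d * x), mul_assoc _ (α _) (α _), ← fm.a_add,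
      mul3, mul3] at h1
    have h2 := (uinj h1).2
    rw [(hsc c x y).1, (hsc d x y).1, (hsc c x y).2, (hsc d x y).2, mul_comm c x, mul_comm d x,
      mul_comm c y, mul_comm d y, (hsc x c d).1, (hsc y c d).1, (hsc x c d).2, (hsc y c d).2,
      mul_comm x (s c d), mul_comm y (s c d), (hsc _ x y).2, mul_comm c (s x y), mul_comm d (s x y),
      (hsc _ c d).2, hsq, hsq, mul_comm x d, mul_comm y c] at h2
    linear_combination h2 + (x * 0 - (x + y) * β c d * 0) * two
  have add : ∀ x y z, β (s x y) z = β x z + β y z := fun x y z => mul_left_cancel₀ hcd (by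
    rw [mul_add, key, key x, key y, hadd, ← (hsc d x y).1, add_comm (β (c * z) _), hadd]; ring)
  obtain ⟨m, f, rfl⟩ := usurj x hx
  have m0 : m ≠ 0 := by rintro rfl; exact h1 (by rw [u0, one_mul]; exact fm.a_mem f)
  have hs0 : ∀ c d, s c d = 0 → c = d := fun c d e => by
    rw [← (hzero d).1, ← (hself c).1, (hass c c d).1, e, hcomm, (hzero c).1]
  have hs1 : ∀ c d, c = s c d → d = 0 := fun c d e => by
    rw [← (hzero d).1, ← (hself c).1, (hass c c d).1, ← e]
  obtain ⟨e, he⟩ := Finite.surjective_of_injective (f := fun x => β x m) (fun x y e => by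
    refine hs0 x y (by_contra fun e0 => ?_)
    have h2 := add x y m
    rw [show β x m = β y m from e, CharTwo.add_self_eq_zero] at h2
    generalize s x y = z at e0 h2
    obtain ⟨z, rfl⟩ : ∃ w, z = m * w := ⟨z / m, by field_simp⟩
    nth_rw 2 [← mul_one m] at h2
    replace h2 := (mul_eq_zero.1 ((hsc m z 1).2.symm.trans h2)).resolve_left m0
    refine hk z (s z 1) (right_ne_zero_of_mul e0) (fun e => ?_)
      (fun e => one_ne_zero (hs1 _ _ (CharTwo.add_eq_zero.1 e)))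
      (by rw [inv_mul_eq_iff_eq_mul, hs, h2, ← ua])
    rw [hs0 _ _ e, (hself 1).2] at h2
    exact one_ne_zero h2) f
  exact ⟨e, s e m, fun e' => m0 (hs1 _ _ e'), by
    rw [eq_inv_mul_iff_mul_eq, ← mul_assoc, hs, mul_assoc, ← fm.a_add, show β e m = f from he,
      CharTwo.add_self_eq_zero, ← ua]⟩

namespace Fr

variable (h : Fr G a b u K) (h3 : S3F G)
include h h3

theorem sq_eq (hs : s ∈ A G a) (hr : r ∈ 𝐂(A G a)) (e : u * s * u = r * u * r⁻¹)
    (h1 : r * r ∈ A G a) : r * r = s := by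
  have h4 : r * (s * u) * r⁻¹ = (s * u) ^ 2 := by
    rw [← mul_assoc, ← mem_cent_iff.1 hr s hs, mul_assoc, mul_assoc, ← mul_assoc r, ← e, sq]; group
  have h5 : s * (s * u) * s⁻¹ = (s * u)⁻¹ := by
    rw [← mul_assoc, h.sq hs, mul_inv_rev, inv_eq_of_mul_self h.u2, one_mul]
  have h6 : s * u ∉ stabilizer G a := fun e =>
    h.ne (((mul_mem_cancel_left (h.A_le a hs)).1 e).symm.trans h.ua)
  generalize s * u = g at h4 h5 h6
  have h7 : r * r * g * (r * r)⁻¹ = g ^ 4 := by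
    calc _ = r * (r * g * r⁻¹) * r⁻¹ := by group
      _ = _ := by rw [h4, ← conj_pow, h4, ← pow_mul]
  generalize r * r = z at h1 h7
  have h8 : (g ^ 5) ^ 3 * g = 1 * g := by
    calc _ = z * (z * g * z⁻¹) * z⁻¹ := by
          rw [h7, ← conj_pow, h7, ← pow_mul, ← pow_mul, ← pow_succ]
      _ = z * z * g * (z * z)⁻¹ := by group
      _ = _ := by rw [h.sq h1]; group
  have h9 : g ^ 4 = g⁻¹ := eq_inv_of_mul_eq_one_left (by
    rw [← pow_succ, h3.eq_one (g := s) (mul_right_cancel h8) (by rw [← conj_pow, h5, inv_pow])])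
  by_contra hne
  refine h6 (h.cent_le (mul_mem (inv_mem hs) h1) (fun e => hne (inv_mul_eq_one.1 e).symm)
    (mem_cent1.2 ?_))
  calc g * (s⁻¹ * z) = s⁻¹ * (s * g * s⁻¹) * z := by group
    _ = _ := by rw [h5, ← h9, ← h7]; group

variable (hS : IsPGroup 2 𝐂(A G a)) (hq : ♯𝐂(A G a) = ♯(A G a) ^ 2)
include hS hq

theorem sq_cent : Sq (A G a) 𝐂(A G a) :=
  (h.sq_of_card hS (Ab.le_cent (h.A_ab a)) le_rfl hq fun _ hs s1 _ ht t1 =>
    let ⟨k, hk, e⟩ := h.exists_K hs s1 ht t1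
    ⟨k, (h.cent_normal a).norm (h.K_le' hk), e⟩).1

theorem bruhat (hx : x ∈ 𝐂(A G a)) (x1 : x ≠ 1) :
    ∃ y ∈ 𝐂(A G a), ∃ j ∈ K, ∃ z ∈ 𝐂(A G a), u * x * u = y * u * j * z := by
  classical
  have hC := h.cent_normal a
  have hA := Ab.le_cent (h.A_ab a)
  have sq := h.sq_cent h3 hS hq
  obtain ⟨s, hs, s1, r, hr, e⟩ := h.str (h.K_le'.trans hC.norm) hC.le fun _ => h.cent_trans h3 h.ne
  obtain ⟨F, _, α, κ, fm, rfl⟩ := (h.rg hs s1).exists_fm
  have := fm.charP
  have r2 := h.sq_eq h3 hs hr e (sq.sq r hr)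
  have rel : Rel1 α κ r u := ⟨fm.a_add, fm.k_mul, fm.k_conj, h.u2, fun c _ => by
    rw [← h.inv (fm.k_mem c), inv_mul_cancel_right], e⟩
  have hm : ∀ c, rho κ r c ∈ 𝐂(A G a) := fun c => hC.conj_mem (h.K_le' (fm.k_mem c)) hr
  have hm2 : ∀ c, c ≠ 0 → rho κ r c * rho κ r c = α c := fun c hc => by
    rw [rho, conj_mul, r2, fm.k_conj c hc, mul_one]
  by_cases hxA : x ∈ A G a
  · obtain ⟨c, rfl⟩ := fm.a_surj x hxA
    exact ⟨_, hm _, _, fm.k_mem _, _, inv_mem (hm _), rel.t_a (mt fm.a_eq_one_iff.2 x1)⟩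
  let v : F → G := fun c => if c = 0 then 1 else rho κ r c
  have u0 : v 0 = 1 := if_pos rfl
  have u1 : ∀ c, c ≠ 0 → v c = rho κ r c := fun c hc => if_neg hc
  obtain ⟨c, d, hcd, rfl⟩ := fm.exists_quot (v := v) sq hA le_rfl
    (h.not_ab h3 (syl_of_max hC.le hS fun U h1 h2 hU => le_antisymm (h.le_cent h3 hU h2) h1))
    (fun c => by
      by_cases hc : c = 0
      · rw [hc, u0]; exact one_mem _
      · rw [u1 c hc]; exact hm c)
    (fun c => by
      by_cases hc : c = 0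
      · rw [hc, u0, one_mul, fm.a_zero]
      · rw [u1 c hc, hm2 c hc]) u0
    (fun l hl c => by
      by_cases hc : c = 0
      · rw [hc, mul_zero, u0]; group
      · rw [u1 c hc, u1 _ (mul_ne_zero hl hc), rel.k_rho hl hc])
    (fun c d hc hd hcd e => by
      have h1 := rel.t_D hc hd hcd
      have h2 := rel.t_rho one_ne_zero
      rw [u1 c hc, u1 d hd, u1 1 one_ne_zero] at e
      rw [e, h2] at h1
      replace h1 := congrArg (· • a) h1
      simp only [mul_smul, mem_stabilizer_iff.1 (hC.le (hm _)),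
        mem_stabilizer_iff.1 (hC.le (inv_mem (hm _))), mem_stabilizer_iff.1 (h.K_le' (fm.k_mem _)),
        h.ua] at h1
      rw [← mul_smul] at h1
      have h4 := eq_inv_mul_iff_mul_eq.1 (h.eq_of_smul_eq hS hC.le h.ne (hA (fm.a_mem _))
        (mul_mem (inv_mem (hm _)) (hm _)) h1)
      have h5 := hm2 _ (div_ne_zero hd (mul_ne_zero hc hcd))
      rw [← h4, mul_assoc, ← mul_assoc (α _), mem_cent_iff.1 (hm _) _ (fm.a_mem _), mul_assoc,
        fm.a_sq, mul_one, hm2 _ (inv_ne_zero hc)] at h5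
      have h6 := fm.a_inj h5
      field_simp at h6
      exact hc (by linear_combination h6)) hx hxA
  by_cases hc : c = 0
  · rw [hc, u0, inv_one, one_mul, u1 d fun e => hcd (hc.trans e.symm)]
    exact ⟨_, hA (fm.a_mem _), _, fm.k_mem _, _, hm _, rel.t_rho fun e => hcd (hc.trans e.symm)⟩
  by_cases hd : d = 0
  · rw [hd, u0, mul_one, u1 c hc]
    exact ⟨_, inv_mem (hm _), _, fm.k_mem _, _, inv_mem (hA (fm.a_mem _)), rel.t_rho_inv hc⟩
  rw [u1 c hc, u1 d hd]
  exact ⟨_, mul_mem (inv_mem (hm _)) (hm _), _, fm.k_mem _, _, mul_mem (inv_mem (hm _)) (hm _),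
    rel.t_D hc hd (mt CharTwo.add_eq_zero.1 hcd)⟩

theorem D_le_of_card (hG : IsSimpleGroup G) : D G a b ≤ K := by
  have hC := h.cent_normal a
  have hA := Ab.le_cent (h.A_ab a)
  have hW := h.W_eq_bot hS
  have br := fun x => h.bruhat (x := x) h3 hS hq
  have tr := fun c => h.cent_trans (c := c) h3 h.ne
  generalize 𝐂(A G a) = S at hC hA hW br tr
  have hn : K ≤ 𝐍(S) := h.K_le'.trans hC.norm
  have hB : S ⊔ K ≤ stabilizer G a := sup_le hC.le h.K_le'
  let T : Set G := {g | g ∈ S ⊔ K ∨ ∃ x ∈ S ⊔ K, ∃ t ∈ S, g = x * u * t}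
  have h1 : S ≤ stabilizer G T := fun t ht =>
    (mem_stabilizer_set_iff_smul_set_subset (Set.toFinite _)).2 (by
      rintro _ ⟨g, hg | ⟨x, hx, r, hr, rfl⟩, rfl⟩
      · exact .inl (mul_mem (mem_sup_left ht) hg)
      · exact .inr ⟨t * x, mul_mem (mem_sup_left ht) hx, r, hr, by simp [mul_assoc]⟩)
  have hs : S ⊔ K ≤ K ⊔ S := (sup_comm _ _).le
  have hu : ∀ k ∈ K, u * k = k⁻¹ * u := fun k hk => by rw [← h.inv hk, inv_mul_cancel_right]
  have h2 : u ∈ stabilizer G T := (mem_stabilizer_set_iff_smul_set_subset (Set.toFinite _)).2 (by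
    rintro _ ⟨g, hg | ⟨x, hx, r, hr, rfl⟩, rfl⟩
    · obtain ⟨k, hk, t, ht, rfl⟩ := (mem_sup_norm_right hn).1 (hs hg)
      exact .inr ⟨k⁻¹, mem_sup_right (inv_mem hk), t, ht, by simp [← mul_assoc, hu k hk]⟩
    obtain ⟨k, hk, t, ht, rfl⟩ := (mem_sup_norm_right hn).1 (hs hx)
    have e : u • (k * t * u * r) = k⁻¹ * (u * t * u) * r := by
      simp only [smul_eq_mul, ← mul_assoc, hu k hk]
    by_cases t1 : t = 1
    · exact .inl (e.symm ▸ mul_mem (by simpa [t1, h.u2] using mem_sup_right hk) (mem_sup_left hr) :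
        u • (k * t * u * r) ∈ _)
    obtain ⟨y, hy, j, hj, z, hz, e'⟩ := br t ht t1
    refine .inr ⟨k⁻¹ * y * j⁻¹, mul_mem (mul_mem (mem_sup_right (inv_mem hk)) (mem_sup_left hy))
      (mem_sup_right (inv_mem hj)), z * r, mul_mem hz hr, ?_⟩
    show u • _ = _
    rw [e, e', mul_assoc y, hu j hj]
    group)
  have h3 : ∀ c : Ω, A G c ≤ stabilizer G T := fun c => by
    by_cases e : a = c
    · exact e ▸ hA.trans h1
    obtain ⟨t, ht, rfl⟩ := tr c e
    rw [← h.ua, ← mul_smul, ← conj_A]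
    exact conj_le_of_mem (mul_mem (h1 ht) h2) (hA.trans h1)
  obtain ⟨s, hs, s1⟩ := h.exists_A a
  have h4 := ((stabilizer G T).normalCore_normal.eq_bot_or_eq_top.resolve_left fun e =>
    s1 (e.le fun g => h3 _ (conj_mem_A hs g))).ge.trans (normalCore_le _)
  intro d hd
  rcases (mem_stabilizer_iff.1 (h4 (mem_top d))).le ⟨1, .inl (one_mem _), mul_one d⟩ with
    e | ⟨x, hx, t, ht, rfl⟩
  · obtain ⟨t, ht, k, hk, rfl⟩ := (mem_sup_norm_left hn).1 e
    rwa [mem_bot.1 (hW.le ⟨ht, (mul_mem_cancel_right (h.K_le hk)).1 hd⟩), one_mul]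
  · have := mem_stabilizer_iff.1 hd.1
    rw [mul_smul, mul_smul, hC.le ht, h.ua] at this
    exact (h.ne (smul_left_cancel x ((hB hx).trans this.symm))).elim

end Fr

end Cfsg.Agent.SZ
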