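import Cfsg.Agent.Lib.SZ.Blk
import Cfsg.Agent.Lib.ZG.Two

/-!
# The induction: `C(A)` is a 2-group
-/

set_option autoImplicit false
set_option linter.unusedSectionVars false

namespace Cfsg.Agent.SZ

open Subgroup MulAction Cfsg.Agent.Coprime Cfsg.Agent.OO Cfsg.Agent.SEA
open scoped Pointwise commutatorElement

universe u

variable {G Ω : Type u} [Group G] [MulAction G Ω] [Finite G]
  {a b c : Ω} {d g k r s t u w x y : G} {E H K N P Q S : Subgroup G} {p : ℕ}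

/-- the induction hypothesis -/
def IH (n : ℕ) : Prop := ∀ (G Ω : Type u) [Group G] [MulAction G Ω] [Finite G],
  Nat.card G < n → S3F G → Hyp G Ω → ∀ a : Ω, Nat.card Ω = ♯(A G a) ^ 2 + 1

theorem Pre.sub (h : Pre G Ω) (h3 : S3F G) (ih : IH.{u} (Nat.card G)) (hH : H ≠ ⊤)
    (h4 : 2 < ♯(A G a ⊓ H)) (hab : a ≠ b) (ht : t ∈ A G b ⊓ H) (t1 : t ≠ 1) :
    ∃ Q : Subgroup G, IsPGroup 2 Q ∧ Q ≤ stabilizer G a ⊓ H ∧ ♯Q = ♯(A G a ⊓ H) ^ 2 ∧ ¬ Ab Q ∧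
      ∀ c, a ≠ c → ∀ r ∈ A G c ⊓ H, r ≠ 1 → ∃ y ∈ Q, y • b = c := by
  obtain ⟨s, hs, s1⟩ : ∃ s ∈ A G a ⊓ H, s ≠ 1 := exists_mem_ne_one fun e => by simp [e] at h4
  have key : ∀ c : Ω, ∀ t ∈ A G c ⊓ H, t ≠ 1 → c ∈ orbit H a := fun c t ht t1 => by
    by_cases e : a = c
    · exact e ▸ mem_orbit_self a
    obtain ⟨w, -, h1, -, h2⟩ := h.exists_swap e hs.1 s1 ht.1 t1
    exact ⟨⟨w, h2 H hs.2 ht.2⟩, h1⟩
  have hp : Pre H (orbit H a) := ⟨fun t e => by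
      by_cases t1 : t = 1
      · exact ⟨⟨a, mem_orbit_self a⟩, by rw [t1, one_smul]⟩
      obtain ⟨c, hc⟩ := h.ex t (congrArg Subtype.val e)
      exact ⟨⟨c, key c t ⟨h.mem_A.2 ⟨hc, congrArg Subtype.val e⟩, t.2⟩ fun e => t1 (Subtype.ext e)⟩,
        Subtype.ext hc⟩,
    fun t1 t2 e e' => Subtype.ext (h.uniq (fun e => t1 (Subtype.ext e)) (congrArg Subtype.val t2)
      (congrArg Subtype.val e) (congrArg Subtype.val e')),
    fun s2 t2 e e' => Subtype.ext (h.comm (congrArg Subtype.val s2) (congrArg Subtype.val t2)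
      (congrArg Subtype.val e) (congrArg Subtype.val e'))⟩
  have h5 : ♯(A H (⟨a, mem_orbit_self a⟩ : orbit H a)) = ♯(A G a ⊓ H) := by
    rw [← card_map_of_injective H.subtype_injective]
    refine congrArg (♯·) (le_antisymm ?_ fun x hx => ⟨⟨x, hx.2⟩, hp.mem_A.2
      ⟨Subtype.ext (h.fix hx.1), Subtype.ext (h.sq hx.1)⟩, rfl⟩)
    rintro _ ⟨z, hz, rfl⟩
    exact ⟨h.mem_A.2 ⟨congrArg Subtype.val (hp.fix hz), congrArg Subtype.val (hp.sq hz)⟩, z.2⟩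
  have hy : Hyp H (orbit H a) := ⟨hp, exists_smul_eq H,
    ⟨⟨a, mem_orbit_self a⟩, ⟨b, key b t ht t1⟩, mt (congrArg Subtype.val) hab⟩, fun c => by
      obtain ⟨g, rfl⟩ := exists_smul_eq H (⟨a, mem_orbit_self a⟩ : orbit H a) c
      rwa [← conj_A, card_conj, h5]⟩
  obtain ⟨Q, h6, h7, h8, h9, tr⟩ := hy.exists_Q (h3.sub H) (ih H _ (card_top (G := G) ▸
    card_lt_of_lt hH.lt_top) (h3.sub H) hy ⟨a, mem_orbit_self a⟩) (b := ⟨b, key b t ht t1⟩)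
    (mt (congrArg Subtype.val) hab)
  refine ⟨Q.map H.subtype, h6.map _, ?_, by rw [card_map_of_injective H.subtype_injective, h8, h5],
    fun e => h9 (ab_iff.2 fun x hx y hy => Subtype.ext (ab_iff.1 e _ (mem_map_of_mem _ hx) _
      (mem_map_of_mem _ hy))), fun c hc r hr r1 => ?_⟩
  · rintro _ ⟨z, hz, rfl⟩
    exact ⟨congrArg Subtype.val (h7 hz), z.2⟩
  · obtain ⟨z, hz, e⟩ := tr ⟨c, key c r hr r1⟩ (mt (congrArg Subtype.val) hc)
    exact ⟨z, mem_map_of_mem _ hz, congrArg Subtype.val e⟩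

theorem Hyp.card_of_ker (h : Hyp G Ω) (h3 : S3F G) (ih : IH.{u} (Nat.card G))
    (hk : (toPermHom G Ω).ker ≠ ⊥) (a : Ω) : Nat.card Ω = ♯(A G a) ^ 2 + 1 := by
  haveI := h.finite
  let f := (toPermHom G Ω).rangeRestrict
  have hf := (toPermHom G Ω).rangeRestrict_surjective
  have lift : ∀ z : (toPermHom G Ω).range, z * z = 1 → ∃ t : G, t * t = 1 ∧ f t = z := fun z e => by
    obtain ⟨a, b, hab⟩ := h.nontriv
    obtain ⟨g, rfl⟩ := hf z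
    have h1 : ∀ c : Ω, (g * g) • c = c := fun c => DFunLike.congr_fun (congrArg Subtype.val
      ((map_mul f g g).trans e)) c
    obtain ⟨j, hj⟩ : Odd (orderOf (g * g)) :=
      Nat.not_even_iff_odd.1 fun e => h.odd_of_mem_D hab ⟨h1 a, h1 b⟩ e.two_dvd
    refine ⟨(g * g) ^ j * g, ?_, by rw [map_mul, map_pow, map_mul, e, one_pow, one_mul]⟩
    rw [← pow_orderOf_eq_one (g * g), hj, ← pow_two, ← pow_two, ← pow_mul, ← pow_succ, ← pow_mul,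
      ← pow_mul, mul_comm]
  have hp : Pre (toPermHom G Ω).range Ω := ⟨fun z e => by
      obtain ⟨t, t2, rfl⟩ := lift z e
      exact h.ex t t2,
    fun {z _ _} z1 e e1 e2 => by
      obtain ⟨t, t2, rfl⟩ := lift z e
      exact h.uniq (fun e => z1 (by rw [e, map_one])) t2 e1 e2,
    fun {y z _} e e' e1 e2 => by
      obtain ⟨s, s2, rfl⟩ := lift y e
      obtain ⟨t, t2, rfl⟩ := lift z e'
      rw [← map_mul, h.comm s2 t2 e1 e2, map_mul]⟩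
  have key : ∀ a : Ω, ♯(A (toPermHom G Ω).range a) = ♯(A G a) := fun a => by
    haveI := h.nontriv
    obtain ⟨b, e⟩ := exists_ne a
    refine (Nat.card_eq_of_bijective (fun s => ⟨f s, hp.mem_A.2 ⟨h.fix s.2, by
      rw [← map_mul, h.sq s.2, map_one]⟩⟩) ⟨fun s t e' => Subtype.ext (h.eq_of_smul_eq (h.A_two a)
        (h.A_le a) e.symm s.2 t.2 (congrArg (·.1.1 b) e')), fun z => ?_⟩).symm
    obtain ⟨t, t2, e⟩ := lift z (hp.sq z.2)
    exact ⟨⟨t, h.mem_A.2 ⟨(congrArg (·.1 a) e).trans (hp.fix z.2), t2⟩⟩, Subtype.ext e⟩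
  rw [← key a]
  exact ih _ Ω (by
    rw [← index_ker, ← card_mul_index (toPermHom G Ω).ker]
    exact lt_mul_of_one_lt_left (Nat.pos_of_ne_zero index_ne_zero_of_finite) (one_lt_card hk))
    (h3.of_surjective f hf) ⟨hp, fun a b => let ⟨g, e⟩ := h.trans a b; ⟨f g, e⟩, h.nontriv,
      fun a => (h.four a).trans_eq (key a).symm⟩ a

/-- squaring induces a bijection from `Q / E` to `E` -/
structure Sq (E Q : Subgroup G) : Prop where
  sq : ∀ x ∈ Q, x * x ∈ E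
  inj : ∀ x ∈ Q, ∀ y ∈ Q, x * x = y * y → x⁻¹ * y ∈ E
  surj : ∀ t ∈ E, ∃ x ∈ Q, x * x = t

theorem Sq.conj (h : Sq E Q) (hg : g ∈ 𝐍(E)) : Sq E (g •ᶜ Q) := by
  refine ⟨?_, ?_, fun t ht => ?_⟩
  · rintro _ ⟨x, hx, rfl⟩
    simpa [mul_assoc] using conj_mem_of_norm hg (h.sq x hx)
  · rintro _ ⟨x, hx, rfl⟩ _ ⟨y, hy, rfl⟩ e
    simpa [mul_assoc] using conj_mem_of_norm hg (h.inj x hx y hy (by simpa using e))
  · obtain ⟨x, hx, e⟩ := h.surj _ (conj_mem_of_norm' hg ht)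
    exact ⟨_, conj_mem_conj hx, by rw [conj_mul, e]; group⟩

theorem Sq.cent (h : Sq E Q) (h1 : ∀ t ∈ E, t * t = 1) (hN : N ≤ Q) (hg : g ∈ 𝐂(E)) (hn : g ∈ 𝐍(N))
    (ho : ¬ 2 ∣ orderOf g) : g ∈ 𝐂(N) := mem_cent_iff_conj.2 fun x hx => by
  have h2 := h.inj x (hN hx) _ (hN (conj_mem_of_norm hn hx)) (by
    rw [conj_mul, mem_cent_iff_conj.1 hg _ (h.sq x (hN hx))])
  obtain ⟨j, hj⟩ := exists_sqrt ho
  rw [← hj, ← (Commute.refl g).mul_pow]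
  refine mem_cent1_iff_conj.1 (pow_mem (mem_cent1_iff_conj.2 ?_) j)
  calc _ = g * x * g⁻¹ * (g * (x⁻¹ * (g * x * g⁻¹)) * g⁻¹) := by group
    _ = x * (x⁻¹ * (g * x * g⁻¹) * (x⁻¹ * (g * x * g⁻¹))) := by
      rw [mem_cent_iff_conj.1 hg _ h2]; group
    _ = x := by rw [h1 _ h2, mul_one]

theorem Hyp.sq_of_card (h : Hyp G Ω) (hQ : IsPGroup 2 Q) (h1 : A G a ≤ Q) (h2 : Q ≤ 𝐂(A G a))
    (hc : ♯Q = ♯(A G a) ^ 2)
    (tr : ∀ s ∈ A G a, s ≠ 1 → ∀ t ∈ A G a, t ≠ 1 → ∃ g ∈ 𝐍(Q), g * s * g⁻¹ = t) :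
    Sq (A G a) Q ∧ (¬ Ab Q → Q ⊓ 𝐂(Q) ≤ A G a) := by
  have h4 := h.four a
  have h5 := h2.trans (h.cent_A_le a)
  obtain ⟨y, hy, e⟩ := SetLike.not_le_iff_exists.1 fun e : Q ≤ A G a => by
    have := card_le e
    nlinarith
  obtain ⟨_, ⟨i, rfl⟩, s1, s2⟩ := R1.exists_invol_mem (dvd_card_of_isPGroup
    (hQ.to_le (zpowers_le.2 (mul_mem hy hy))) (zpowers_ne_bot.2 fun e' => e (h.mem_A.2 ⟨h5 hy, e'⟩)))
  simp only [(Commute.refl y).mul_zpow] at s1 s2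
  have hx := zpow_mem hy i
  generalize y ^ i = x at s1 s2 hx
  have h6 : ∀ t ∈ A G a, ∃ z ∈ Q, z * z = t := fun t ht => by
    by_cases t1 : t = 1
    · exact ⟨1, one_mem Q, by rw [t1, mul_one]⟩
    obtain ⟨g, hg, rfl⟩ := tr _ (h.mem_A.2 ⟨h5 (mul_mem hx hx), s2⟩) s1 t ht t1
    exact ⟨_, conj_mem_of_norm hg hx, conj_mul⟩
  choose f f1 f2 using fun t : A G a => h6 t t.2
  have f3 : ∀ t z : A G a, f t * z * (f t * z) = t := fun t z => by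
    rw [mul_assoc, ← mul_assoc (z : G), mem_cent_iff.1 (h2 (f1 t)) z z.2, mul_assoc, h.sq z.2,
      mul_one, f2]
  have f4 := ((Nat.bijective_iff_injective_and_card fun p : A G a × A G a =>
    (⟨f p.1 * p.2, mul_mem (f1 _) (h1 p.2.2)⟩ : Q)).2 ⟨fun p q e => by
      have e : f p.1 * p.2 = f q.1 * q.2 := congrArg Subtype.val e
      have e1 : p.1 = q.1 := Subtype.ext (by rw [← f3 p.1 p.2, e, f3])
      exact Prod.ext e1 (Subtype.ext (mul_left_cancel (e1 ▸ e))), by rw [Nat.card_prod, hc, sq]⟩).2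
  have f5 : ∀ x ∈ Q, ∃ t z : A G a, f t * z = x := fun x hx =>
    let ⟨p, e⟩ := f4 ⟨x, hx⟩; ⟨p.1, p.2, congrArg Subtype.val e⟩
  have h7 : Sq (A G a) Q := ⟨fun x hx => by
    obtain ⟨t, z, rfl⟩ := f5 x hx
    exact (f3 t z).symm ▸ t.2, fun x hx y hy e => by
    obtain ⟨t, z, rfl⟩ := f5 x hx
    obtain ⟨t', z', rfl⟩ := f5 y hy
    rw [f3, f3] at e
    rw [Subtype.ext e, mul_inv_rev, mul_assoc, inv_mul_cancel_left]
    exact mul_mem (inv_mem z.2) z'.2, h6⟩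
  refine ⟨h7, fun e z hz => by_contra fun e' => e (ab_iff_le_cent.2 fun y hy => ?_)⟩
  have h8 := le_cent_comm.1 h2
  by_cases e1 : y * y = 1
  · exact h8 (h.mem_A.2 ⟨h5 hy, e1⟩)
  obtain ⟨g, hg, e2⟩ := tr _ (h7.sq z hz.1) (fun e2 => e' (h.mem_A.2 ⟨h5 hz.1, e2⟩)) _ (h7.sq y hy) e1
  exact (mul_mem_cancel_left (inv_mem (conj_mem_of_norm (norm_le_norm_cent Q hg) hz.2))).1
    (h8 (h7.inj _ (conj_mem_of_norm hg hz.1) y hy (conj_mul.trans e2)))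

namespace Fr

variable (h : Fr G a b u K) (hG : IsSimpleGroup G) (h3 : S3F G) (ih : IH.{u} (Nat.card G))
include h hG

theorem eq_bot (hN : N ≤ stabilizer G a) (hn : ⊤ ≤ 𝐍(N)) : N = ⊥ :=
  (normalIn_top.1 ⟨le_top, hn⟩).eq_bot_or_eq_top.resolve_right fun e =>
    h.ne (mem_stabilizer_iff.1 (hN (e.ge (mem_top u))) ▸ h.ua)

include h3 ih

theorem syl_W [Fact p.Prime] (hP : Syl p P (D G a b ⊓ 𝐂(A G a))) (h1 : P ≠ ⊥) :
    Syl p P 𝐂(A G a) ∧ PNil 2 𝐂(A G a) := by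
  have hC := h.cent_normal a
  have hPC := hP.le.trans inf_le_right
  have h2 : A G a ≤ 𝐂(P) := le_cent_comm.1 hPC
  have h2' : A G b ≤ 𝐂(P) := le_cent_comm.1 (hP.le.trans ((h.W_comm h.ne).le.trans inf_le_right))
  obtain ⟨t, ht, t1⟩ := h.exists_A b
  obtain ⟨Q, hQ, h4, h5, h6, tr⟩ := h.sub h3 ih (H := 𝐂(P)) (fun e => h1 (h.eq_bot hG
    (hPC.trans hC.le) (e.ge.trans (cent_le_norm P))))
    (by rw [inf_eq_left.2 h2]; exact h.four a) h.ne ⟨ht, h2' ht⟩ t1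
  rw [inf_eq_left.2 h2] at h5
  have hQC := h.le_cent h3 hQ (h4.trans inf_le_left)
  have hQP := h4.trans inf_le_right
  have h7 : Q ≤ 𝐂(A G a) ⊓ 𝐍(P) := le_inf hQC (hQP.trans (cent_le_norm P))
  have h8 : ∀ g ∈ 𝐂(A G a) ⊓ 𝐍(P), ∃ y ∈ Q, y • b = g • b := fun g hg =>
    tr _ (fun e => h.ne (smul_left_cancel g ((hC.le hg.1).trans e))) _
      ⟨conj_mem_A ht g, conj_mem_of_norm (norm_le_norm_cent P hg.2) (h2' ht)⟩ (BSW.conj_ne_one t1)
  have h9 := h.isProd_of_trans h7 (inf_le_left.trans hC.le) h8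
  have h10 := h.syl_of_trans hQ h.ne h7 (inf_le_left.trans hC.le) h8
  have hD := (piGrp_compl_singleton Nat.prime_two).2 (h.odd_D h.ne)
  have h11 : Syl p P 𝐂(A G a) := .of_syl_norm hPC ((hP.mono (le_inf (le_inf hPC (le_norm_self P))
    (hP.le.trans inf_le_left)) fun x hx => ⟨hx.2, hx.1.1⟩).trans_hall (h9.symm.hall_left
      (hD.of_le inf_le_right) (by rw [compl_compl]; exact piGrp_singleton hQ))
    (mem_of_isPGroup_of_piGrp hP.isPGroup h1 (hD.of_le (hP.le.trans inf_le_left))))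
  obtain ⟨sq, h12⟩ := h.sq_of_card hQ (h.A_le_syl h10 (le_inf (Ab.le_cent (h.A_ab a))
    (h2.trans (cent_le_norm P))) (inf_le_left.trans hC.le)) hQC h5 fun s hs s1 t ht t1 => by
      obtain ⟨k, hk, rfl⟩ := h.exists_K hs s1 ht t1
      obtain ⟨c, hc, n, hn, rfl⟩ := (h10.frattini (M := stabilizer G a ⊓ 𝐍(P))
        (hC.inf_inf _)).mem_iff.1 ⟨h.K_le' hk, cent_le_norm P (mem_cent_iff.2 fun x hx =>
          mul_inv_eq_iff_eq_mul.1 (h.W_cent_K (hP.le hx) hk))⟩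
      refine ⟨n, hn.2, ?_⟩
      rw [← mem_cent_iff_conj.1 hc.1 _ (conj_mem_of_norm (stab_le_norm a hn.1.1) hs)]; group
  have h13 : ∀ n : ℕ, ∀ y ∈ stabilizer G a ⊓ 𝐂(Q), y ^ 2 ^ n ∈ Q → y ∈ Q := fun n => by
    induction n with
    | zero => simp
    | succ n ih =>
      intro y hy e
      obtain ⟨x, hx, e⟩ := sq.surj _ (h12 h6 ⟨ih _ (mul_mem hy hy) (by
        rwa [← pow_two, ← pow_mul, ← pow_succ']), mul_mem hy.2 hy.2⟩)
      refine (mul_mem_cancel_left (inv_mem hx)).1 (h.A_le_syl h10 (le_inf (Ab.le_cent (h.A_ab a))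
        (h2.trans (cent_le_norm P))) (inf_le_left.trans hC.le) (h.mem_A.2
          ⟨mul_mem (inv_mem (hC.le (hQC hx))) hy.1, ?_⟩))
      rw [mul_assoc, ← mul_assoc y, ← mem_cent_iff.1 hy.2 _ (inv_mem hx), mul_assoc, ← e]; group
  have h14 : Syl 2 Q 𝐂(A G a) := .of_syl_norm hQC (syl_of_max (le_inf hQC (le_norm_self Q)) hQ
    fun U h15 h16 hU => le_antisymm (fun y hy => by
      obtain ⟨c, hc, n, hn, rfl⟩ := ((h11.mono (le_inf hPC (le_cent_comm.1 hQP))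
        inf_le_left).frattini (M := 𝐂(A G a) ⊓ 𝐍(Q)) ⟨inf_le_inf_left _ (cent_le_norm Q),
          le_norm_inf (le_norm_of_le inf_le_left)
            (inf_le_right.trans (norm_le_norm_cent Q))⟩).mem_iff.1 (h16 hy)
      obtain ⟨z, hz, d, hd, rfl⟩ := h9.mem_iff.1 ⟨hn.1.1, hn.2⟩
      have h17 := sq.cent (fun _ => h.sq) le_rfl hd.1.1 ((mul_mem_cancel_left
        (le_norm_self Q hz)).1 hn.1.2) (h.odd_of_mem_D h.ne hd.2)
      have h18 := mul_mem (inv_mem (h15 hz)) hy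
      obtain ⟨i, hi⟩ := hU ⟨_, h18⟩
      refine (mul_mem_cancel_left (inv_mem hz)).1 (h13 i _ ⟨hC.le (h16 h18).1, ?_⟩
        (mem_bot.2 (congrArg Subtype.val hi) |> (bot_le : ⊥ ≤ Q)))
      rw [← mul_assoc, ← mul_assoc]
      exact mul_mem (conj_mem_of_norm' (norm_le_norm_cent Q (le_norm_self Q hz)) hc.2) h17) h15)
  refine ⟨h11, ZG.pnil_two fun R hR hR' g hg hn ho => ?_⟩
  obtain ⟨c, hc, e⟩ := h14.exists_le_conj' hR hR'
  exact (sq.conj (cent_le_norm _ hc)).cent (fun _ => h.sq) e hg hn fun e =>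
    Nat.not_even_iff_odd.2 ho (even_iff_two_dvd.2 e)

theorem cent_two : IsPGroup 2 𝐂(A G a) := by
  have hC := h.cent_normal a
  have hP : PNil 2 𝐂(A G a) := by
    by_cases e : D G a b ⊓ 𝐂(A G a) = ⊥
    · obtain ⟨k, hk, k1⟩ := h.exists_ne_one
      exact pnil_of_nil 2 (Transfer.isNilpotent_of_fpf_action (h.K_le'.trans hC.norm)
        (fun e => k1 (e.le hk)) fun k hk k1 y hy e' => e.le ⟨h.cent_K hk k1 (hC.le hy) e'.symm, hy⟩)
    obtain ⟨p, hp, hd⟩ := exists_prime_dvd e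
    haveI := Fact.mk hp
    obtain ⟨P, hP⟩ := exists_syl p (D G a b ⊓ 𝐂(A G a))
    exact (h.syl_W hG h3 ih hP (hP.ne_bot hd)).2
  obtain ⟨S, hS⟩ := exists_syl 2 𝐂(A G a)
  have hY := hP.sdprod hS
  by_cases e : Op' 2 𝐂(A G a) = ⊥
  · exact hY.right_eq_iff.2 e ▸ hS.isPGroup
  obtain ⟨N, h1, h2, h4, p, hp, h5⟩ := exists_norm_abelem (Feit_Thompson
    (Nat.not_even_iff_odd.1 fun e => not_dvd_Op' _ e.two_dvd)) e (hC.Opi _).norm
  haveI := Fact.mk hp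
  refine (h.false_of_normal h3 hG hP h1 h4 h2 (by_contra fun e' => h4 ?_)).elim
  obtain ⟨P, hP, h6⟩ := exists_syl_ge (le_inf inf_le_right (inf_le_left.trans
    (h1.trans hY.left_le))) ((abelem_isPGroup h5).to_le (inf_le_left : N ⊓ D G a b ≤ N))
  have h7 := ((h.syl_W hG h3 ih hP fun e => e' (eq_bot_iff.2 (h6.trans e.le))).1.le_of_normal
    ⟨h1.trans hY.left_le, hC.le.trans h2⟩ (abelem_isPGroup h5)).trans (hP.le.trans inf_le_left)
  refine eq_bot_iff.2 (le_trans (fun x hx => Equiv.ext fun c => ?_)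
    (h.eq_bot hG (N := (toPermHom G Ω).ker) (fun g hg => DFunLike.congr_fun hg a)
      (normalIn_top.2 inferInstance).norm).le)
  by_cases e : a = c
  · exact e ▸ (h7 hx).1
  obtain ⟨g, hg, rfl⟩ := h.two_trans h.ne e
  exact smul_fix_of_norm (h2 hg) (h7.trans inf_le_right) hx

end Fr

end Cfsg.Agent.SZ
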