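import Mathlib

/-!
# Additive maps of a finite field of characteristic two preserving a power map
-/

set_option autoImplicit false

namespace Cfsg.Agent.SZ

open Finset

variable {F : Type*} [Field F] {ι : Type*} {f : F → F} {n : ℕ}

variable (F) in
/-- functions of degree less than `n` -/
def Dg : ℕ → Submodule F (F → F)
  | 0 => ⊥
  | n + 1 => ⨅ y, (Dg n).comap (LinearMap.funLeft F F (· + y) - LinearMap.id)

theorem mem_Dg : f ∈ Dg F (n + 1) ↔ ∀ y, (fun x => f (x + y) - f x) ∈ Dg F n :=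
  Submodule.mem_iInf _

theorem Dg_congr {g : F → F} (hf : f ∈ Dg F n) (e : ∀ x, g x = f x) : g ∈ Dg F n := funext e ▸ hf

theorem Dg_comp (h : F →+ F) (c : F) (hf : f ∈ Dg F n) : (fun x => f (h x + c)) ∈ Dg F n := by
  induction n generalizing f with
  | zero => rw [show f = 0 from hf]; exact zero_mem _
  | succ n ih => exact mem_Dg.2 fun y => Dg_congr (ih (mem_Dg.1 hf (h y))) (by
      intro x; rw [map_add, add_right_comm])

theorem Dg_mul (L : F →+ F) (hf : f ∈ Dg F n) : (fun x => L x * f x) ∈ Dg F (n + 1) := by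
  induction n generalizing f with
  | zero => exact Dg_congr (zero_mem _) (by simp [show f = 0 from hf])
  | succ n ih => exact mem_Dg.2 fun y => Dg_congr (add_mem (ih (mem_Dg.1 hf y))
      (Submodule.smul_mem _ (L y) (Dg_comp (.id F) y hf))) fun x => by simp; ring

theorem Dg_prod [DecidableEq ι] (σ : ι → F →+ F) (I : Finset ι) :
    (fun x => ∏ i ∈ I, σ i x) ∈ Dg F (#I + 1) ∧ ∀ y, (fun x => ∏ i ∈ I, σ i (x + y) - ∏ i ∈ I, σ i x -
      ∑ i ∈ I, σ i y * ∏ j ∈ I.erase i, σ j x) ∈ Dg F (#I - 1) := by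
  induction I using Finset.induction_on with
  | empty => exact ⟨mem_Dg.2 fun y => Dg_congr (zero_mem _) (by simp),
      fun y => Dg_congr (zero_mem _) (by simp)⟩
  | insert j I hj ih =>
    simp only [prod_insert hj, sum_insert hj, erase_insert hj, card_insert_of_notMem hj]
    refine ⟨Dg_mul _ ih.1, fun y => ?_⟩
    have h1 : (fun x => σ j x * (∏ i ∈ I, σ i (x + y) - ∏ i ∈ I, σ i x -
        ∑ i ∈ I, σ i y * ∏ j ∈ I.erase i, σ j x)) ∈ Dg F #I := by
      rcases I.eq_empty_or_nonempty with rfl | h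
      · exact Dg_congr (zero_mem _) (by simp)
      · exact Nat.sub_add_cancel h.card_pos ▸ Dg_mul (σ j) (ih.2 y)
    refine Dg_congr (add_mem h1 (Submodule.smul_mem _ (σ j y) (mem_Dg.1 ih.1 y))) fun x => ?_
    rw [sum_congr rfl fun i hi => by
      rw [erase_insert_of_ne (by rintro rfl; exact hj hi), prod_insert fun e => hj (mem_of_mem_erase e),
        mul_left_comm], ← mul_sum]
    simp; ring

theorem prod_notMem [DecidableEq ι] (σ : ι → F →+* F) (I : Finset ι) (hσ : Set.InjOn σ I) :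
    (fun x => ∏ i ∈ I, σ i x) ∉ Dg F #I := by
  induction h : #I generalizing I with
  | zero => exact fun e => one_ne_zero ((by simp [card_eq_zero.1 h] : (1 : F) = _).trans
      (congr_fun (show _ = 0 from e) 0))
  | succ n ih =>
    intro e
    obtain ⟨i, hi⟩ := card_pos.1 (show 0 < #I by omega)
    obtain ⟨l, h1, h2⟩ := Submodule.exists_le_ker_of_notMem (ih (I.erase i)
      (hσ.mono (erase_subset i I)) (by rw [card_erase_of_mem hi, h]; rfl))
    refine h1 (linearIndependent_iff'.1 ((linearIndependent_monoidHom F F).comp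
      (fun i : I => (σ i : F →* F)) fun i j e => Subtype.ext (hσ i.2 j.2
        (RingHom.ext fun x => DFunLike.congr_fun (F := F →* F) e x))) univ
      (fun i => l fun x => ∏ j ∈ I.erase i, σ j x) (funext fun y => ?_) ⟨i, hi⟩ (mem_univ _))
    have h3 := (Dg_prod (fun i => (σ i : F →+ F)) I).2 y
    rw [h] at h3
    have h4 := h2 (sub_mem (mem_Dg.1 e y) h3)
    rw [LinearMap.mem_ker, show (_ - _ : F → F) = ∑ i ∈ I, σ i y • fun x => ∏ j ∈ I.erase i, σ j x by
      ext x; simp, map_sum, ← sum_coe_sort] at h4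
    simpa [mul_comm] using h4

theorem mcc [Finite F] [CharP F 2] (H : Set (F →+ F)) {e : ℕ} (e0 : 0 < e) (e1 : e + 1 < Nat.card F)
    (hH : ∀ h ∈ H, ∀ x, h x ^ e = x ^ e) :
    ∃ c : F, c ≠ 0 ∧ c ≠ 1 ∧ ∀ h ∈ H, ∀ x, h (c * x) = c * h x := by
  by_contra! hc
  have := Fintype.ofFinite F
  obtain ⟨n, -, hn⟩ := FiniteField.card F 2
  rw [Nat.card_eq_fintype_card] at e1
  obtain ⟨I, hI⟩ : ∃ I : Finset ℕ, ∑ i ∈ I, 2 ^ i = e := ⟨_, sum_toFinset_bitIndices_two_pow e⟩
  have h1 : I ⊆ range n := fun i hi => mem_range.2 ((Nat.pow_lt_pow_iff_right one_lt_two).1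
    ((single_le_sum (f := fun i => 2 ^ i) (fun _ _ => Nat.zero_le _) hi).trans_lt (by omega)))
  obtain ⟨j, hj, hj'⟩ := exists_of_ssubset (h1.ssubset_of_ne (by
    rintro rfl
    rw [Nat.geomSum_eq le_rfl] at hI
    omega))
  obtain ⟨i, hi⟩ : I.Nonempty := nonempty_iff_ne_empty.2 (by rintro rfl; simp at hI; omega)
  have h2 : ∀ x : F, x ^ e = ∏ i ∈ I, iterateFrobenius F 2 i x := fun x => by
    simp only [iterateFrobenius_def, prod_pow_eq_pow_sum, hI]
  have h3 : Set.InjOn (fun i => iterateFrobenius F 2 i) (range n : Finset ℕ) := fun i hi j hj e => by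
    obtain ⟨g, hg⟩ := IsCyclic.exists_ofOrder_eq_natCard (α := Fˣ)
    have key : ∀ i ∈ range n, 2 ^ i < orderOf g := fun i hi => by
      have := Nat.pow_le_pow_right two_pos (mem_range.1 hi)
      rw [hg, Nat.card_units, Nat.card_eq_fintype_card]
      omega
    exact Nat.pow_right_injective le_rfl (pow_injOn_Iio_orderOf (key i hi) (key j hj)
      (Units.ext (by simpa [iterateFrobenius_def] using RingHom.congr_fun e (g : F))))
  let R : Subring (AddMonoid.End F) :=
    { carrier := {T | ∀ L : F →+ F, (fun x => L x * x ^ e) ∈ Dg F (#I + 1) →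
        (fun x => L (T x) * x ^ e) ∈ Dg F (#I + 1)}
      mul_mem' := fun {S T} hS hT L hL => hT (L.comp S) (hS L hL)
      one_mem' := fun L hL => hL
      add_mem' := fun {S T} hS hT L hL => Dg_congr (add_mem (hS L hL) (hT L hL)) fun x =>
        (congrArg (· * _) (L.map_add _ _)).trans (add_mul _ _ _)
      zero_mem' := fun L hL => Dg_congr (zero_mem _) (by simp)
      neg_mem' := fun {S} hS L hL => Dg_congr (neg_mem (hS L hL)) fun x =>
        (congrArg (· * _) (L.map_neg _)).trans (neg_mul _ _) }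
  have m1 : ∀ c : F, AddMonoid.End.mulLeft c ∈ R := fun c L hL => by
    by_cases c0 : c = 0
    · exact Dg_congr (zero_mem _) (by simp [c0])
    refine Dg_congr (Submodule.smul_mem _ (c ^ e)⁻¹ (Dg_comp (AddMonoidHom.mulLeft c) 0 hL))
      fun x => ?_
    change L (c * x) * _ = _ * (L (c * x + 0) * (c * x + 0) ^ e)
    rw [add_zero, mul_pow]; field_simp
  have m2 : ∀ h ∈ H, (h : AddMonoid.End F) ∈ R := fun h e L hL =>
    Dg_congr (Dg_comp h 0 hL) fun x => by rw [add_zero, hH h e]; rfl
  have : IsSimpleModule R F := isSimpleModule_iff_toSpanSingleton_surjective.2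
    ⟨inferInstance, fun x x0 y => ⟨⟨_, m1 (y / x)⟩, div_mul_cancel₀ y x0⟩⟩
  let T : F →+ F := ((iterateFrobeniusEquiv F 2 i).symm : F →+ F).comp (iterateFrobenius F 2 j)
  obtain ⟨r, hr⟩ := jacobson_density (R := R) (M := F) { T with
    map_smul' := fun E x => by
      have h4 : ∀ x, E x = E 1 * x := fun x => by
        rw [mul_comm]; exact (congrArg E (mul_one x).symm).trans (E.map_smul ⟨_, m1 x⟩ 1)
      change T (E x) = E (T x)
      rw [h4, h4 (T x)]
      by_cases c0 : E 1 = 0
      · simp [c0]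
      by_cases c1 : E 1 = 1
      · simp [c1]
      obtain ⟨h, e, x, hx⟩ := hc _ c0 c1
      exact (hx (by rw [← h4, ← h4]; exact (E.map_smul ⟨_, m2 h e⟩ x).symm)).elim } univ
  refine prod_notMem _ (insert j I) (h3.mono (coe_subset.2 (insert_subset hj h1))) ?_
  have h5 := Dg_mul (iterateFrobenius F 2 (i + 1) : F →+ F)
    (Dg_prod (fun i => (iterateFrobenius F 2 i : F →+ F)) (I.erase i)).1
  rw [card_erase_add_one hi] at h5
  rw [card_insert_of_notMem hj']
  convert r.2 (iterateFrobenius F 2 i : F →+ F) (by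
    convert h5 using 2 with x
    rw [h2, ← mul_prod_erase I _ hi, ← mul_assoc]
    simp [iterateFrobenius_def, pow_succ, pow_mul, sq]) using 2 with x
  rw [prod_insert hj', h2, show r.1 x = T x from (hr x (mem_univ x)).symm]
  exact congrArg (· * _) ((iterateFrobeniusEquiv F 2 i).apply_symm_apply _).symm

end Cfsg.Agent.SZ
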