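import Cfsg.Agent.Lib.SZ.Basic
import Cfsg.Agent.Lib.SZ.McC
import Cfsg.Agent.Lib.Schur.SRing
import Cfsg.Agent.Lib.AF.Burnside

/-!
# Groups of automorphisms of an elementary abelian 2-group containing a Singer cycle
-/

set_option autoImplicit false
set_option linter.unusedSectionVars false

namespace Cfsg.Agent.SZ

open Subgroup Cfsg.Agent.Coprime Cfsg.Agent.OO
open scoped Pointwise

universe u

variable {G : Type u} [Group G] {A K M : Subgroup G} {s x y : G}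

/-- `K` is abelian and regular on the involutions of `A` -/
structure Rg (A K : Subgroup G) (s : G) : Prop where
  el : IsElementaryAbelian 2 A
  norm : K ≤ 𝐍(A)
  ab : Ab K
  mem : s ∈ A
  ne : s ≠ 1
  tr : ∀ t ∈ A, t ≠ 1 → ∃ k ∈ K, k * s * k⁻¹ = t
  semi : ∀ k ∈ K, s * k = k * s → k = 1

/-- coordinates: `A` is the additive and `K` the multiplicative group of a field -/
structure Fm (A K : Subgroup G) {F : Type*} [Field F] (a k : F → G) : Prop where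
  a_add : ∀ c d, a (c + d) = a c * a d
  a_inj : Function.Injective a
  a_mem : ∀ c, a c ∈ A
  a_sq : ∀ c, a c * a c = 1
  a_surj : ∀ x ∈ A, ∃ c, a c = x
  k_mem : ∀ c, k c ∈ K
  k_surj : ∀ j ∈ K, ∃ c, c ≠ 0 ∧ k c = j
  k_conj : ∀ c, c ≠ 0 → ∀ d, k c * a d * (k c)⁻¹ = a (c * d)
  k_mul : ∀ c d, c ≠ 0 → d ≠ 0 → k (c * d) = k c * k d

theorem Rg.eq (h : Rg A K s) {i j : G} (hi : i ∈ K) (hj : j ∈ K) (e : i * s * i⁻¹ = j * s * j⁻¹) :
    i = j := (inv_mul_eq_one.1 (h.semi _ (mul_mem (inv_mem hj) hi) (by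
  rw [show j⁻¹ * i * s = j⁻¹ * (i * s * i⁻¹) * i by group, e]; group))).symm

theorem Rg.exists_fm (h : Rg A K s) :
    ∃ (F : Type u) (_ : Field F) (a k : F → G), Fm A K a k ∧ a 1 = s := by
  classical
  have hκ : ∀ x : Additive A, ∃ j : K, x ≠ 0 → j * s * (j : G)⁻¹ = x.toMul := fun x => by
    by_cases x1 : x = 0
    · exact ⟨1, fun h => (h x1).elim⟩
    · obtain ⟨j, hj, e⟩ := h.tr _ x.toMul.2 fun e => x1 (Subtype.ext e)
      exact ⟨⟨j, hj⟩, fun _ => e⟩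
  choose κ κs using hκ
  let cj : K → Additive A → Additive A := fun j y =>
    .ofMul ⟨j * y.toMul * (j : G)⁻¹, conj_mem_of_norm (h.norm j.2) y.toMul.2⟩
  let _ : One (Additive A) := ⟨.ofMul ⟨s, h.mem⟩⟩
  let _ : Mul (Additive A) := ⟨fun x y => if x = 0 then 0 else cj (κ x) y⟩
  let _ : Inv (Additive A) := ⟨fun x => if x = 0 then 0 else cj (κ x)⁻¹ 1⟩
  have zero_mul' : ∀ y : Additive A, 0 * y = 0 := fun y => if_pos rfl
  have cj_ne : ∀ j, cj j 1 ≠ 0 := fun j e => BSW.conj_ne_one h.ne (congrArg Subtype.val e)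
  have hκ : ∀ j, κ (cj j 1) = j := fun j => Subtype.ext (h.eq (κ _).2 j.2 (κs _ (cj_ne j)))
  have cj_mul : ∀ j y, cj j 1 * y = cj j y := fun j y => (if_neg (cj_ne j)).trans (by rw [hκ])
  have cj_inv : ∀ j, (cj j 1)⁻¹ = cj j⁻¹ 1 := fun j => (if_neg (cj_ne j)).trans (by rw [hκ])
  have cj_cj : ∀ i j y, cj i (cj j y) = cj (i * j) y := fun i j y => Subtype.ext (by
    simp [cj, mul_assoc])
  have cj_one : ∀ y, cj 1 y = y := fun y => Subtype.ext (by simp [cj])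
  have cases' : ∀ x : Additive A, x = 0 ∨ ∃ j, x = cj j 1 := fun x =>
    (eq_or_ne x 0).imp_right fun x0 => ⟨κ x, Subtype.ext (κs x x0).symm⟩
  have mul_zero' : ∀ x : Additive A, x * 0 = 0 := fun x => by
    rcases cases' x with rfl | ⟨j, rfl⟩
    · exact zero_mul' _
    · rw [cj_mul]; exact Subtype.ext ((congrArg (· * _) (mul_one _)).trans (mul_inv_cancel _))
  let fld : Field (Additive A) := Field.ofMinimalAxioms _ add_assoc zero_add neg_add_cancel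
    (fun x y z => by
      rcases cases' x with rfl | ⟨i, rfl⟩
      · rw [zero_mul', zero_mul', zero_mul']
      rcases cases' y with rfl | ⟨j, rfl⟩
      · rw [mul_zero', zero_mul', mul_zero']
      rw [cj_mul, cj_mul, cj_mul, cj_cj, cj_mul, cj_cj])
    (fun x y => by
      rcases cases' x with rfl | ⟨i, rfl⟩
      · rw [zero_mul', mul_zero']
      rcases cases' y with rfl | ⟨j, rfl⟩
      · rw [mul_zero', zero_mul']
      rw [cj_mul, cj_mul, cj_cj, cj_cj, show i * j = j * i from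
        Subtype.ext (ab_iff.1 h.ab _ i.2 _ j.2)])
    (fun x => by simpa only [cj_one] using cj_mul 1 x)
    (fun x hx => by
      rcases cases' x with rfl | ⟨i, rfl⟩
      · exact (hx rfl).elim
      rw [cj_inv, cj_mul, cj_cj, mul_inv_cancel, cj_one])
    (if_pos rfl)
    (fun x y z => by
      rcases cases' x with rfl | ⟨i, rfl⟩
      · rw [zero_mul', zero_mul', zero_mul', add_zero]
      rw [cj_mul, cj_mul, cj_mul]
      exact Subtype.ext conj_mul.symm)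
    ⟨0, 1, fun e => h.ne (congrArg Subtype.val e).symm⟩
  refine ⟨Additive A, fld, fun c => c.toMul, fun c => κ c, ⟨fun _ _ => rfl, Subtype.val_injective,
    fun c => c.toMul.2, fun c => pow_two (c.toMul : G) ▸ h.el.2 _ c.toMul.2,
    fun x hx => ⟨.ofMul ⟨x, hx⟩, rfl⟩, fun c => (κ c).2, fun j hj =>
      ⟨cj ⟨j, hj⟩ 1, cj_ne _, congrArg Subtype.val (hκ _)⟩, fun c hc d =>
      (congrArg Subtype.val (if_neg hc : c * d = cj (κ c) d)).symm, fun c d hc hd => ?_⟩, rfl⟩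
  obtain ⟨i, rfl⟩ := (cases' c).resolve_left hc
  obtain ⟨j, rfl⟩ := (cases' d).resolve_left hd
  exact congrArg Subtype.val ((congrArg κ ((cj_mul i _).trans (cj_cj i j 1))).trans
    ((hκ _).trans (congrArg₂ (· * ·) (hκ i) (hκ j)).symm))

namespace Fm

variable {F : Type*} [Field F] {a k : F → G} (fm : Fm A K a k)
include fm

theorem a_zero : a 0 = 1 := left_eq_mul.1 ((congrArg a (add_zero 0).symm).trans (fm.a_add 0 0))

theorem a_eq_one_iff {c : F} : a c = 1 ↔ c = 0 := by rw [← fm.a_zero, fm.a_inj.eq_iff]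

theorem charP : CharP F 2 := CharTwo.of_one_ne_zero_of_two_eq_zero one_ne_zero
  (fm.a_eq_one_iff.1 (by rw [← one_add_one_eq_two, fm.a_add, fm.a_sq]))

theorem card : Nat.card F = ♯A := Nat.card_eq_of_bijective (fun c => (⟨a c, fm.a_mem c⟩ : A))
  ⟨fun _ _ e => fm.a_inj (congrArg Subtype.val e),
    fun x => (fm.a_surj x x.2).imp fun _ => Subtype.ext⟩

theorem k_ne_one {c : F} (hc : c ≠ 0) (c1 : c ≠ 1) : k c ≠ 1 := fun e =>
  c1 (fm.a_inj (by simpa [e] using (fm.k_conj c hc 1).symm))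

end Fm

variable [Finite G]

theorem S3F.false_of_three (h3 : S3F G) (e : x ≠ y) {g h : G}
    (h1 : g * x * g⁻¹ = y) (h2 : g * y * g⁻¹ = x * y) (h4 : g * (x * y) * g⁻¹ = x)
    (h5 : h * x * h⁻¹ = y) (h6 : h * y * h⁻¹ = x) (h7 : h * (x * y) * h⁻¹ = x * y) : False := by
  have c : ∀ i j z : G, i * j * z * (i * j)⁻¹ = i * (j * z * j⁻¹) * i⁻¹ := fun i j z => by group
  have i : ∀ {z w : G}, h * z * h⁻¹ = w → h⁻¹ * w * h⁻¹⁻¹ = z := fun e => by rw [← e]; group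
  refine e ((mem_cent1_iff_conj.1 (h3 (𝐂[x] ⊓ 𝐂[y]) g h (mem_norm_of_conj_le ?_)
    (mem_norm_of_conj_le ?_) ⟨mem_cent1_iff_conj.2 ?_, mem_cent1_iff_conj.2 ?_⟩
    ⟨mem_cent1_iff_conj.2 ?_, mem_cent1_iff_conj.2 ?_⟩).1).symm.trans h1)
  · rw [conj_inf, ← cent1_conj, ← cent1_conj, h1, h2]
    exact fun z hz => ⟨mem_cent1_comm.1 ((mul_mem_cancel_right (mem_cent1_comm.1 hz.1)).1
      (mem_cent1_comm.1 hz.2)), hz.1⟩
  · rw [conj_inf, ← cent1_conj, ← cent1_conj, h5, h6, inf_comm]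
  · rw [pow_three, c, c, h1, h2, h4]
  · rw [pow_three, c, c, h2, h4, h1]
  · rw [c, c, c, h1, i h5, h1, h6]
  · rw [c, c, c, h2, i h7, h4, h5]

theorem singer (h3 : S3F G) (h : Rg A K s) (h4 : 2 < ♯A) (hK : K ≤ M) (hM : M ≤ 𝐍(A)) :
    (∀ g ∈ M, ∀ j ∈ K, ∃ i ∈ K, g * j * g⁻¹ * i⁻¹ ∈ 𝐂(A)) ∨ ∃ N, N ⊴ M ∧ M ⊓ 𝐂(A) ≤ N ∧
      (∃ j ∈ K ⊓ N, j ≠ 1) ∧ ∃ c ∈ K, c ≠ 1 ∧ ∀ g ∈ N, g * c * g⁻¹ * c⁻¹ ∈ 𝐂(A) := by
  obtain ⟨F, _, a, k, fm, -⟩ := h.exists_fm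
  have := Finite.of_injective a fm.a_inj
  have := fm.charP
  rw [← fm.card] at h4
  choose φ hφ using fun (g : M) c => fm.a_surj _ (conj_mem_of_norm (hM g.2) (fm.a_mem c))
  have φ0 : ∀ g (c : Fˣ), φ g c ≠ 0 := fun g c e => BSW.conj_ne_one
    (mt fm.a_eq_one_iff.1 c.ne_zero) ((hφ g c).symm.trans (fm.a_eq_one_iff.2 e))
  let Γ : Subgroup (Equiv.Perm Fˣ) :=
    { carrier := {σ | ∃ g ∈ M, ∀ x : Fˣ, a (σ x) = g * a x * g⁻¹}
      one_mem' := ⟨1, one_mem M, by simp⟩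
      mul_mem' := fun ⟨g, hg, e⟩ ⟨g', hg', e'⟩ => ⟨g * g', mul_mem hg hg', fun x => by
        rw [Equiv.Perm.mul_apply, e, e']; group⟩
      inv_mem' := fun {σ} ⟨g, hg, e⟩ => ⟨g⁻¹, inv_mem hg, fun x => by
        rw [← σ.apply_symm_apply x, e, σ.apply_symm_apply x]; simp [mul_assoc]⟩ }
  have g1 : ∀ g ∈ M, ∃ σ ∈ Γ, ∀ x : Fˣ, a (σ x) = g * a x * g⁻¹ := fun g hg =>
    ⟨.ofBijective (fun c => Units.mk0 _ (φ0 ⟨g, hg⟩ c)) (Finite.injective_iff_bijective.1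
      fun c d e => Units.ext (fm.a_inj (mul_left_cancel (mul_right_cancel ((hφ ⟨g, hg⟩ c).symm.trans
        ((congrArg (a ·.1) e).trans (hφ _ d))))))), ⟨g, hg, fun c => hφ ⟨g, hg⟩ c⟩,
      fun c => hφ ⟨g, hg⟩ c⟩
  have g2 : ∀ c, Equiv.mulLeft c ∈ Γ := fun c =>
    ⟨k c, hK (fm.k_mem c), fun x => (fm.k_conj c c.ne_zero x).symm⟩
  have g3 : ∀ g, (∀ x : Fˣ, g * a x * g⁻¹ = a x) → g ∈ 𝐂(A) := fun g e =>
    mem_cent_iff_conj.2 fun y hy => by
      obtain ⟨c, rfl⟩ := fm.a_surj y hy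
      by_cases c0 : c = 0
      · simp [c0, fm.a_zero]
      · exact e (.mk0 c c0)
  have g4 : ¬ ∀ x y x' y' : Fˣ, x ≠ y → x' ≠ y' → ∃ σ ∈ Γ, σ x = x' ∧ σ y = y' := fun e => by
    obtain ⟨x, y, xy⟩ := (Finite.one_lt_card_iff_nontrivial (α := Fˣ)).1 (by
      rw [Nat.card_units]; omega)
    have z0 : (x : F) + y ≠ 0 := fun e => xy (Units.ext (CharTwo.add_eq_zero.1 e))
    obtain ⟨σ, ⟨g, -, e1⟩, e2, e3⟩ := e x y y (.mk0 _ z0) xy fun e =>
      x.ne_zero (right_eq_add.1 (congrArg Units.val e))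
    obtain ⟨τ, ⟨g', -, e4⟩, e5, e6⟩ := e x y y x xy xy.symm
    have a1 := e1 x
    have a2 := e1 y
    have a3 := e4 x
    have a4 := e4 y
    rw [e2] at a1
    rw [e3, Units.val_mk0, fm.a_add] at a2
    rw [e5] at a3
    rw [e6] at a4
    refine h3.false_of_three (fun e => xy (Units.ext (fm.a_inj e))) a1.symm a2.symm ?_ a3.symm
      a4.symm ?_
    · rw [← conj_mul, ← a1, ← a2, ← fm.a_add, ← fm.a_add, add_comm (x : F), CharTwo.add_cancel_left]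
    · rw [← conj_mul, ← a3, ← a4, ← fm.a_add, ← fm.a_add, add_comm]
  by_cases hp : ∀ L : Subgroup Fˣ, Schur.SInv Γ L → L = ⊥ ∨ L = ⊤
  · obtain ⟨p, p1, p2⟩ := Nat.exists_prime_and_dvd (n := Nat.card Fˣ) (by rw [Nat.card_units]; omega)
    have p3 : Nat.card (powMonoidHom p : Fˣ →* Fˣ).ker = p := by
      rw [IsCyclic.card_powMonoidHom_ker, Nat.gcd_eq_right p2]
    by_cases p4 : (powMonoidHom p : Fˣ →* Fˣ).ker = ⊤
    swap
    · refine (g4 fun x y x' y' e e' => ?_).elim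
      obtain ⟨σ, e1, e2⟩ := Schur.mem_sOrb_of_primitive p1 p3 hp g2 p4 (x := y / x) (y := y' / x')
        (mt div_eq_one.1 e.symm) (mt div_eq_one.1 e'.symm)
      refine ⟨Equiv.mulLeft (x' / σ 1) * σ * Equiv.mulLeft x⁻¹, mul_mem (mul_mem (g2 _) e1) (g2 _),
        by simp, ?_⟩
      simp only [Equiv.Perm.mul_apply, Equiv.coe_mulLeft]
      rw [inv_mul_eq_div, div_mul_comm, e2, div_mul_cancel]
    have := Fact.mk p1
    rw [p4, card_top] at p3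
    obtain e | ⟨-, e, e1, e2, -, e3⟩ := AF.burnside (G := Γ) (Ω := Set.univ) (a := (1 : Fˣ))
      ((Set.ncard_univ _).trans p3) fun x => ⟨fun _ => ⟨⟨_, g2 x⟩, mul_one x⟩, fun _ => trivial⟩
    · exact (g4 fun x y x' y' h1 h2 => let ⟨σ, h⟩ := e x trivial y trivial x' trivial y' trivial h1 h2
        ⟨σ.1, σ.2, h⟩).elim
    have key : ∀ σ ∈ Γ, (∀ x, σ x ≠ x) → ∃ d, ∀ i, σ (e i) = e (i + d) := fun σ h1 h2 => by
      obtain ⟨c, d, h⟩ := e3 ⟨σ, h1⟩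
      by_cases c1 : 1 - c = 0
      · exact ⟨d, fun i => (h i).trans (by rw [← sub_eq_zero.1 c1, one_mul])⟩
      · exact (h2 _ ((h (d / (1 - c))).trans (congrArg e (by field_simp; ring)))).elim
    refine .inl fun g hg j hj => ?_
    obtain ⟨c, c0, rfl⟩ := fm.k_surj j hj
    by_cases c1 : c = 1
    · exact ⟨_, hj, by simp [show k c = 1 by simpa [c1] using fm.k_mul c c c0 c0]⟩
    obtain ⟨σ, h1, h2⟩ := g1 _ (mul_mem (mul_mem hg (hK hj)) (inv_mem hg))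
    have h5 : ∀ x, σ x ≠ x := fun x h5 => by
      obtain ⟨τ, -, h6⟩ := g1 _ (inv_mem hg)
      have := fm.k_conj c c0 (τ x)
      rw [h6, show k c * (g⁻¹ * a x * g⁻¹⁻¹) * (k c)⁻¹ =
        g⁻¹ * (g * k c * g⁻¹ * a x * (g * k c * g⁻¹)⁻¹) * g⁻¹⁻¹ by group, ← h2, h5, ← h6] at this
      exact c1 ((mul_eq_right₀ (Units.ne_zero _)).1 (fm.a_inj this).symm)
    obtain ⟨d, h6⟩ := key (Equiv.mulLeft (σ (e 0) / e 0)) (g2 _) fun x e =>
      h5 _ (div_eq_one.1 (mul_eq_right.1 e))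
    obtain ⟨d', h7⟩ := key σ h1 h5
    obtain rfl : d = d' := add_left_cancel (e1 ((h6 0).symm.trans ((div_mul_cancel _ _).trans (h7 0))))
    refine ⟨_, fm.k_mem (σ (e 0) / e 0 : Fˣ), g3 _ fun x => ?_⟩
    obtain ⟨x, rfl⟩ := (Equiv.mulLeft (σ (e 0) / e 0)).surjective x
    obtain ⟨i, rfl⟩ : x ∈ Set.range e := e2 ▸ trivial
    nth_rw 2 [h6]
    rw [← h7, h2, Equiv.coe_mulLeft, Units.val_mul, ← fm.k_conj _ (Units.ne_zero _)]
    group
  push Not at hp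
  obtain ⟨L, h1, h2, h5⟩ := hp
  let N : Subgroup G :=
    { carrier := {g | g ∈ M ∧ ∀ x y : Fˣ, a y = g * a x * g⁻¹ → y / x ∈ L}
      one_mem' := ⟨one_mem M, fun x y e => by
        rw [show y = x from Units.ext (fm.a_inj (by simpa using e)), div_self']; exact one_mem L⟩
      mul_mem' := fun {g g'} hg hg' => ⟨mul_mem hg.1 hg'.1, fun x y e => by
        obtain ⟨σ, -, e'⟩ := g1 g' hg'.1
        exact div_mul_div_cancel y (σ x) x ▸ mul_mem (hg.2 _ _ (by rw [e, e']; group))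
          (hg'.2 _ _ (e' x))⟩
      inv_mem' := fun {g} hg => ⟨inv_mem hg.1, fun x y e =>
        inv_div x y ▸ inv_mem (hg.2 y x (by rw [e]; group))⟩ }
  obtain ⟨c, c0, c1, hc⟩ := mcc {f : F →+ F | ∃ g ∈ N, ∀ x, a (f x) = g * a x * g⁻¹}
    (e := Nat.card L) Nat.card_pos (by
      have := card_lt_of_lt h5.lt_top
      rw [card_top, Nat.card_units] at this
      omega) fun f ⟨g, hg, e⟩ x => by
    by_cases x0 : x = 0
    · rw [x0, map_zero]
    have f0 : f x ≠ 0 := fun e' => BSW.conj_ne_one (mt fm.a_eq_one_iff.1 x0)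
      ((e x).symm.trans (fm.a_eq_one_iff.2 e'))
    have := congrArg Units.val (orderOf_dvd_iff_pow_eq_one.1
      (orderOf_dvd_card (hg.2 (.mk0 x x0) (.mk0 _ f0) (e x))))
    simpa [div_pow, div_eq_one_iff_eq (pow_ne_zero _ x0)] using this
  obtain ⟨l, hl, l1⟩ := exists_mem_ne_one h2
  refine .inr ⟨N, ⟨fun g hg => hg.1, le_norm_iff.2 fun m hm g hg =>
    ⟨mul_mem (mul_mem hm hg.1) (inv_mem hm), fun x y e => ?_⟩⟩, fun g hg => ⟨hg.1, fun x y e => ?_⟩,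
    ⟨k l, ⟨fm.k_mem l, hK (fm.k_mem l), fun x y e => ?_⟩, fm.k_ne_one l.ne_zero
      fun e => l1 (Units.ext e)⟩, k c, fm.k_mem c, fm.k_ne_one c0 c1, fun g hg => g3 _ fun x => ?_⟩
  · obtain ⟨σ, h6, h7⟩ := g1 _ (inv_mem hm)
    exact (h1.iff h6 y x).1 (hg.2 _ _ (by rw [h7, h7, e]; group))
  · rw [mem_cent_iff_conj.1 hg.2 _ (fm.a_mem x)] at e
    rw [show y = x from Units.ext (fm.a_inj e), div_self']; exact one_mem L
  · rw [fm.k_conj l l.ne_zero] at e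
    rwa [show y = l * x from Units.ext (fm.a_inj e), mul_div_cancel_right]
  · have h6 := hc (.mk' (φ ⟨g⁻¹, inv_mem hg.1⟩) fun c d => fm.a_inj (by
      rw [fm.a_add, hφ, hφ, hφ, fm.a_add, conj_mul])) ⟨g⁻¹, inv_mem hg, hφ _⟩ (c⁻¹ * x)
    have h7 := fm.k_conj c c0 (c⁻¹ * x)
    replace h6 := congrArg a h6
    rw [mul_inv_cancel_left₀ c0] at h6 h7
    erw [← fm.k_conj c c0, hφ, hφ] at h6
    rw [show g * k c * g⁻¹ * (k c)⁻¹ * a x * (g * k c * g⁻¹ * (k c)⁻¹)⁻¹ = g * (k c * (g⁻¹ *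
      ((k c)⁻¹ * a x * k c) * g⁻¹⁻¹) * (k c)⁻¹) * g⁻¹ by group, show (k c)⁻¹ * a x * k c =
      a (c⁻¹ * x) by rw [← h7]; group, ← h6]
    group

end Cfsg.Agent.SZ
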