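import Cfsg.Agent.Lib.SZ.Two
import Cfsg.Agent.Lib.SZ.Singer
import Cfsg.Agent.Lib.SEA.Ind

/-!
# `C(A)` is transitive on the remaining points; the structure equation
-/

set_option autoImplicit false
set_option linter.unusedSectionVars false

namespace Cfsg.Agent.SZ

open Subgroup MulAction Cfsg.Agent.Coprime Cfsg.Agent.OO Cfsg.Agent.SEA
open scoped Pointwise

universe u

variable {G Ω : Type u} [Group G] [MulAction G Ω] [Finite G]
  {a b c : Ω} {d g k r s t u w x y : G} {H K L P Q S T X : Subgroup G} {p n : ℕ}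

theorem Hyp.cent_normal (h : Hyp G Ω) (a : Ω) : 𝐂(A G a) ⊴ stabilizer G a :=
  ⟨h.cent_A_le a, le_norm_cent (stab_le_norm a)⟩

theorem Hyp.exists_fr' (h : Hyp G Ω) (hab : a ≠ b) : ∃ u K, Fr G a b u K :=
  let ⟨u, hu, e⟩ := h.exists_swap' hab
  ⟨u, h.exists_fr hab hu e⟩

namespace Fr

variable (h : Fr G a b u K)
include h

theorem K_le' : K ≤ stabilizer G a := h.K_le.trans inf_le_left

theorem rg (hs : s ∈ A G a) (s1 : s ≠ 1) : Rg (A G a) K s :=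
  haveI := h.cyc
  ⟨h.abelem a, h.K_le'.trans (stab_le_norm a), inferInstance, hs, s1,
    fun _ ht t1 => h.exists_K hs s1 ht t1, fun _ hk e => h.eq_one hk hs s1 e⟩

theorem exists_ne_one : ∃ k ∈ K, k ≠ 1 := exists_mem_ne_one fun e => by
  have := h.card_K
  have := h.four a
  rw [e, card_bot] at *
  omega

theorem isProd (h3 : S3F G) : IsProd 𝐂(A G a) (D G a b) (stabilizer G a) := by
  have hC := h.cent_normal a
  have key : ∀ c ∈ K, c ≠ 1 → ∀ L ≤ K, c ∈ L → ∀ N ≤ stabilizer G a,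
      (∀ g ∈ N, ∀ j ∈ L, ∃ i ∈ L, g * j * g⁻¹ * i⁻¹ ∈ 𝐂(A G a)) →
      ∀ g ∈ N, ∃ y ∈ 𝐂(A G a), ∃ d ∈ D G a b, y * d = g := fun c hc c1 L hL h1 N hN h2 g hg => by
    have h4 := hL.trans h.K_le'
    obtain ⟨l, hl, d, hd, rfl⟩ := h.frattini (L := 𝐂(A G a) ⊔ L) (normalIn_sup_right (A := N)
      (le_norm_iff.2 fun g hg x hx => by
        obtain ⟨y, hy, j, hj, rfl⟩ := (mem_sup_norm_left (h4.trans hC.norm)).1 hx
        obtain ⟨i, hi, e⟩ := h2 g hg j hj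
        rw [← conj_mul, ← inv_mul_cancel_right (g * j * g⁻¹) i]
        exact mul_mem (mem_sup_left (hC.conj_mem (hN hg) hy)) (mul_mem_sup e hi)))
      (sup_le hN (sup_le hC.le h4)) hc c1 (mem_sup_right h1) (mem_sup_left hg)
    obtain ⟨y, hy, j, hj, rfl⟩ := (mem_sup_norm_left (h4.trans hC.norm)).1 hl
    exact ⟨y, hy, j * d, mul_mem (h.K_le (hL hj)) hd, (mul_assoc _ _ _).symm⟩
  obtain ⟨s, hs, s1⟩ := h.exists_A a
  refine .of_forall hC.le inf_le_left fun g hg => ?_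
  obtain e | ⟨N, h1, -, ⟨j, hj, j1⟩, c, hc, c1, e⟩ :=
    singer h3 (h.rg hs s1) (h.four a) h.K_le' (stab_le_norm a)
  · obtain ⟨k, hk, k1⟩ := h.exists_ne_one
    exact key k hk k1 K le_rfl hk _ le_rfl e g hg
  obtain ⟨l, hl, d, hd, rfl⟩ := h.frattini h1 le_rfl hj.1 j1 hj.2 hg
  obtain ⟨y, hy, d', hd', rfl⟩ := key c hc c1 _ (zpowers_le.2 hc) (mem_zpowers c) N h1.le
    (fun g hg j hj => ⟨j, hj, by
      have h2 := hC.norm (h.K_le' hc)
      have h4 := hC.norm (h1.le hg)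
      have h5 := hC.norm (h.K_le' (zpowers_le.2 hc hj))
      obtain ⟨i, rfl⟩ := mem_powers_iff_mem_zpowers.2 hj
      refine (coset_commute_iff h4 h5).1 ?_
      rw [coset_pow h2]
      exact (Commute.pow_right ((coset_commute_iff h4 h2).2 (e g hg)) i).eq⟩) l hl
  exact ⟨y, hy, d' * d, mul_mem hd' hd, (mul_assoc _ _ _).symm⟩

/-- the structure equation -/
theorem str (hT : K ≤ 𝐍(T)) (h1 : T ≤ stabilizer G a) (tr : ∀ c, a ≠ c → ∃ y ∈ T, y • b = c) :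
    ∃ s ∈ A G a, s ≠ 1 ∧ ∃ r ∈ T, u * s * u = r * u * r⁻¹ := by
  obtain ⟨s, hs, s1⟩ := h.exists_A a
  have h2 := h.ua ▸ conj_mem_A hs u
  obtain ⟨r, hr, e⟩ := tr _ (h.smul_ne h2 (BSW.conj_ne_one s1) h.ne.symm).symm
  have h4 := h.mul_mem_K (BSW.conj_mul_self (g := r⁻¹) (h.sq h2)) (by
    rw [inv_inv, mul_smul, mul_smul, h1 hr, ← e, inv_smul_smul])
  obtain ⟨i, hi⟩ := exists_sqrt (h.odd_of_mem_D h.ne (h.K_le h4))
  have h5 := pow_mem h4 i
  generalize (u * (r⁻¹ * (u * s * u⁻¹) * r⁻¹⁻¹)) ^ i = j at hi h5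
  have h6 := h.inv h5
  have h7 := BSW.inv_eq_of_mul_self h.u2
  refine ⟨_, conj_mem_of_norm (stab_le_norm a (h.K_le' (inv_mem h5))) hs, BSW.conj_ne_one s1, _,
    conj_mem_of_norm (hT h5) hr, ?_⟩
  calc _ = (u * j * u⁻¹)⁻¹ * r * u⁻¹ * (u * (r⁻¹ * (u * s * u⁻¹) * r⁻¹⁻¹)) * r⁻¹ *
        (u * j * u) := by group
    _ = j * r * (u * j * u⁻¹) * u * j * r⁻¹ * j⁻¹ := by
      rw [← hi, show u * j * u = j⁻¹ by rw [← h6, h7]]; nth_rw 1 [h6]; nth_rw 1 [h7]; group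
    _ = _ := by rw [h6]; group

theorem sq_ne_one (h3 : S3F G) (hs : s ∈ A G a) (hr : r ∈ 𝐂(A G a))
    (e : u * s * u = r * u * r⁻¹) : r * r ≠ 1 := fun r2 => by
  have h1 : r * (s * u) * r⁻¹ = (s * u) ^ 2 := by
    rw [← mul_assoc, ← mem_cent_iff.1 hr s hs, mul_assoc, mul_assoc, ← mul_assoc r, ← e, sq]; group
  have h2 : (s * u) ^ 3 * (s * u) = 1 * (s * u) := by
    calc _ = r * (r * (s * u) * r⁻¹) * r⁻¹ := by rw [h1, ← conj_pow, h1, ← pow_mul, ← pow_succ]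
      _ = r * r * (s * u) * (r * r)⁻¹ := by group
      _ = _ := by rw [r2]; group
  have h4 := h3.eq_one (g := s) (mul_right_cancel h2) (by
    rw [← mul_assoc, h.sq hs, mul_inv_rev, BSW.inv_eq_of_mul_self h.u2, one_mul])
  exact h.ne (by rw [← h.ua, eq_inv_of_mul_eq_one_right h4, h.inv_eq hs, h.fix hs])

end Fr

namespace Hyp

variable (h : Hyp G Ω)
include h

theorem eq_of_smul_eq (hQ : IsPGroup 2 Q) (h1 : Q ≤ stabilizer G a) (hab : a ≠ b) (hx : x ∈ Q)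
    (hy : y ∈ Q) (e : x • b = y • b) : x = y :=
  inv_mul_eq_one.1 (mem_bot.1 (((piGrp_singleton hQ).inf_eq_bot ((piGrp_compl_singleton
    Nat.prime_two).2 (h.odd_D hab))).le (mem_inf.2 ⟨mul_mem (inv_mem hx) hy, mem_D.2
      ⟨h1 (mul_mem (inv_mem hx) hy), by rw [mul_smul, ← e, inv_smul_smul]⟩⟩)))

theorem card_eq (hQ : IsPGroup 2 Q) (h1 : Q ≤ stabilizer G a) (hab : a ≠ b)
    (tr : ∀ c, a ≠ c → ∃ y ∈ Q, y • b = c) : Nat.card Ω = ♯Q + 1 := by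
  haveI := h.finite
  rw [← Set.ncard_univ, ← Set.ncard_diff_singleton_add_one (Set.mem_univ a), ← card_elts,
    card_elts_set]
  exact congrArg (· + 1) (Eq.symm (Set.ncard_congr (fun t _ => t • b)
    (fun t ht => ⟨trivial, fun e => hab (smul_left_cancel t ((h1 ht).trans e.symm))⟩)
    (fun s t hs ht e => h.eq_of_smul_eq hQ h1 hab hs ht e)
    fun c hc => let ⟨t, ht, e⟩ := tr c (Ne.symm hc.2); ⟨t, ht, e⟩))

/-- a subgroup transitive on the remaining points -/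
theorem isProd_of_trans (h1 : Q ≤ H) (h2 : H ≤ stabilizer G a)
    (tr : ∀ g ∈ H, ∃ y ∈ Q, y • b = g • b) : IsProd Q (H ⊓ D G a b) H :=
  .of_forall h1 inf_le_left fun g hg => let ⟨y, hy, e⟩ := tr g hg
    ⟨y, hy, y⁻¹ * g, mem_inf.2 ⟨mul_mem (inv_mem (h1 hy)) hg, mem_D.2
      ⟨h2 (mul_mem (inv_mem (h1 hy)) hg), by rw [mul_smul, ← e, inv_smul_smul]⟩⟩,
      mul_inv_cancel_left _ _⟩

theorem syl_of_trans (hQ : IsPGroup 2 Q) (hab : a ≠ b) (h1 : Q ≤ H) (h2 : H ≤ stabilizer G a)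
    (tr : ∀ g ∈ H, ∃ y ∈ Q, y • b = g • b) : Syl 2 Q H :=
  ((h.isProd_of_trans h1 h2 tr).hall_left (piGrp_singleton hQ) (((piGrp_compl_singleton
    Nat.prime_two).2 (h.odd_D hab)).of_le inf_le_right)).syl

variable (h3 : S3F G)
include h3

theorem cent_trans (hab : a ≠ b) (hac : a ≠ c) : ∃ y ∈ 𝐂(A G a), y • b = c := by
  obtain ⟨u, K, hK⟩ := h.exists_fr' hab
  obtain ⟨g, hg, rfl⟩ := h.two_trans hab hac
  obtain ⟨y, hy, d, hd, rfl⟩ := (hK.isProd h3).mem_iff.1 hg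
  exact ⟨y, hy, by rw [mul_smul, hd.2]⟩

theorem odd_relIndex (h2 : H ≤ stabilizer G a) : ¬ 2 ∣ (𝐂(A G a)).relIndex H := fun e => by
  haveI := h.nontriv
  obtain ⟨b, hab⟩ := exists_ne a
  obtain ⟨u, K, hK⟩ := h.exists_fr' hab.symm
  exact h.odd_D hab.symm ((e.trans (relIndex_dvd_of_le_norm h2 (h.cent_normal a).norm)).trans
    ((hK.isProd h3).symm.relIndex_eq ▸ relIndex_dvd_card _ _))

theorem le_cent (hQ : IsPGroup 2 Q) (h1 : Q ≤ stabilizer G a) : Q ≤ 𝐂(A G a) :=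
  (piGrp_singleton hQ).le_of_relIndex h1 (h.cent_normal a).norm fun p hp hd e =>
    h.odd_relIndex h3 le_rfl (Set.mem_singleton_iff.1 e ▸ hd)

theorem exists_lin_stab (hab : a ≠ b) (hn : ♯(A G a) = 2 ^ n) :
    ∃ T f, Lin (A G a) (stabilizer G a) T f n := by
  obtain ⟨u, hu, e⟩ := h.exists_swap' hab
  refine exists_lin (h.abelem a) (fun e => by simpa [e] using h.four a) (stab_le_norm a)
    (h.odd_relIndex h3 le_rfl) hn fun s hs s1 t ht t1 => ?_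
  obtain ⟨k, hk, -, e⟩ := h.exists_conj hab hu e hs s1 ht t1
  exact ⟨k, hk.1, e⟩

theorem relIndex_le (hn : ♯(A G a) = 2 ^ n) (hs : s ∈ A G a) (s1 : s ≠ 1) :
    (𝐂(A G a)).relIndex 𝐂[s] ≤ n := by
  haveI := h.nontriv
  obtain ⟨b, hab⟩ := exists_ne a
  obtain ⟨T, f, hT⟩ := h.exists_lin_stab h3 hab.symm hn
  have h1 := relIndex_mul_relIndex _ _ _ (cent_le_cent1 hs) (h.cent_le hs s1)
  have h2 := relIndex_mul_relIndex _ _ _ (fun x hx => hT.cent_le ⟨h.cent_A_le a hx, hx⟩) hT.le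
  rw [h.relIndex_cent hab.symm hs s1 inf_le_left le_rfl] at h1
  have h3 := hT.relIndex_le hs s1
  have h4 := Nat.le_of_dvd (Nat.pos_of_ne_zero (by rintro rfl; have := h.four a; omega)) hT.index
  have h5 := h.four a
  refine Nat.le_of_mul_le_mul_right ?_ (show 0 < ♯(A G a) - 1 by omega)
  rw [h1, ← h2, mul_comm]
  exact Nat.mul_le_mul h4 h3

theorem not_ab (hS : Syl 2 S (stabilizer G a)) : ¬ Ab S := fun e => by
  haveI := h.nontriv
  obtain ⟨b, hab⟩ := exists_ne a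
  obtain ⟨u, K, hK⟩ := h.exists_fr' hab.symm
  obtain ⟨s, hs, s1⟩ := h.exists_A a
  have h1 : Syl 2 S ⊤ := .of_syl_norm le_top (hS.mono (le_inf le_top (le_norm_self S)) fun g hg =>
    h.fix_of_conj hs s1 (h.mem_A.2 ⟨hS.le (conj_mem_of_norm hg.2
      (h.A_le_syl hS (h.A_le a) le_rfl hs)), BSW.conj_mul_self (h.sq hs)⟩))
  obtain ⟨s, hs, -, r, hr, e⟩ := hK.str (hK.K_le'.trans (stab_le_norm a)) (h.A_le a) fun c hc =>
    (h.sea fun P hP => let ⟨g, _, e'⟩ := h1.exists_le_conj' le_top hP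
      ab_of_le (ab_conj.2 e) e').tr a b c hab.symm hc
  exact hK.sq_ne_one h3 hs (Ab.le_cent (h.A_ab a) hr) e (h.sq hr)

theorem exists_Q (e : Nat.card Ω = ♯(A G a) ^ 2 + 1) (hab : a ≠ b) :
    ∃ Q : Subgroup G, IsPGroup 2 Q ∧ Q ≤ stabilizer G a ∧
      ♯Q = ♯(A G a) ^ 2 ∧ ¬ Ab Q ∧ ∀ c, a ≠ c → ∃ y ∈ Q, y • b = c := by
  haveI := h.finite
  obtain ⟨S, hS⟩ := exists_syl 2 (stabilizer G a)
  obtain ⟨n, -, hn⟩ := h.exists_card a
  have h1 : (stabilizer G b).relIndex (stabilizer G a) = ♯(A G a) ^ 2 := by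
    rw [show (stabilizer G b).relIndex (stabilizer G a) = _ from index_stabilizer _ b,
      show orbit (stabilizer G a) b = Set.univ \ {a} from Set.ext fun c => ⟨fun ⟨g, e⟩ =>
        ⟨trivial, fun e' => hab (smul_left_cancel g (g.2.trans (e.trans e').symm))⟩, fun hc =>
        let ⟨g, hg, e⟩ := h.two_trans hab (Ne.symm hc.2); ⟨⟨g, hg⟩, e⟩⟩,
      Set.ncard_diff_singleton_of_mem (Set.mem_univ a), Set.ncard_univ, e, Nat.add_sub_cancel]
  have tr : ∀ c, a ≠ c → ∃ y ∈ S, y • b = c := fun c hc => by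
    obtain ⟨g, hg, rfl⟩ := h.two_trans hab hc
    obtain ⟨y, hy, d, hd, rfl⟩ := (IsProd.of_coprime_relIndex hS.le (D_le a b) (by
      rw [D, inf_relIndex_left, h1, hn, ← pow_mul]
      exact ((Nat.Prime.coprime_iff_not_dvd Nat.prime_two).2 hS.not_dvd).symm.pow_right _)).mem_iff.1
        hg
    exact ⟨y, hy, by rw [mul_smul, hd.2]⟩
  exact ⟨S, hS.isPGroup, hS.le, add_right_cancel ((h.card_eq hS.isPGroup hS.le hab tr).symm.trans e),
    h.not_ab h3 hS, tr⟩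

end Hyp

end Cfsg.Agent.SZ
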