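import Cfsg.Agent.Lib.SZ.Odd

/-!
# Products of two involutions and the principal 2-block
-/

set_option autoImplicit false
set_option linter.unusedSectionVars false

namespace Cfsg.Agent.SZ

open Subgroup MulAction Cfsg.Agent.Coprime Cfsg.Agent.OO Cfsg.Agent.ODD Cfsg.Agent.Blk
  Cfsg.Agent.SEA
open scoped Pointwise

universe u

variable {G Ω : Type u} [Group G] [MulAction G Ω] [Finite G]
  {a b c : Ω} {d g k s t u w x y z : G} {H K L N : Subgroup G} {φ ψ : G → ℂ}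

theorem exists_conj_mul (hx : PiElt {2} x) (hN : ¬ 2 ∣ ♯N) (hn : x ∈ 𝐍(N)) (hy : y ∈ N) :
    ∃ g, ∃ z ∈ N ⊓ 𝐂[x], y * x = g * (x * z) * g⁻¹ := by
  have h1 := isPGroup_zpowers_iff.2 hx
  have h2 := (piGrp_compl_singleton Nat.prime_two).2 hN
  have h3 := IsSdprod.of_coprime (zpowers_le.2 hn) (coprime_of_isPGroup h1 h2).symm
  have h4 := mul_mem_sup hy (mem_zpowers x)
  have h5 := isPGroup_zpowers_iff.2 (piElt_constt {2} (y * x))
  obtain ⟨g, hg, e⟩ := h3.exists_le_conj (coprime_of_isPGroup h1 h2).symm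
    (zpowers_le.2 (constt_mem {2} h4)) (coprime_of_isPGroup h5 h2).symm
    (.inr (.inl (sol_of_ab inferInstance)))
  have h6 := (h3.hall_left h2 (by rw [compl_compl]; exact piGrp_singleton h1)).mem_of_normal
    h3.normal.norm (constt_mem {2}ᶜ h4) (piElt_constt _ _)
  have h7 := constt_mul_constt_compl {2} (y * x)
  have h8 := (commute_constt_constt {2} {2}ᶜ (y * x)).eq
  replace e := OO.mem_conj.1 (e (mem_zpowers _))
  generalize constt {2} (y * x) = v at h7 h8 e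
  generalize constt {2}ᶜ (y * x) = w at h6 h7 h8
  have h9 := mul_inv_eq_one.1 (h3.inf_eq.le (mem_inf.2 ⟨by
    rw [show g⁻¹ * v * g * x⁻¹ = g⁻¹ * y * (x * (w⁻¹ * g) * x⁻¹) by
      rw [eq_mul_inv_of_mul_eq h7]; group]
    exact mul_mem (mul_mem (inv_mem hg) hy) (conj_mem_of_norm hn (mul_mem (inv_mem h6) hg)),
    mul_mem e (inv_mem (mem_zpowers x))⟩))
  refine ⟨g, g⁻¹ * w * g, mem_inf.2 ⟨mul_mem (mul_mem (inv_mem hg) h6) hg, mem_cent1.2 ?_⟩, ?_⟩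
  · rw [← h9]
    calc _ = g⁻¹ * (w * v) * g := by group
      _ = _ := by rw [← h8]; group
  · rw [← h7, ← h9]; group

theorem Pre.eq_of_even (h : Pre G Ω) (hx : 2 ∣ orderOf x) (h1 : x • a = a) (h2 : x • b = b) :
    a = b := by_contra fun e => h.odd_of_mem_D e ⟨h1, h2⟩ hx

theorem Pre.cent_le' (h : Pre G Ω) (hx : 2 ∣ orderOf x) (h1 : x • a = a) :
    𝐂[x] ≤ stabilizer G a := fun g hg =>
  (h.eq_of_even hx h1 (by rw [← mul_smul, ← mem_cent1.1 hg, mul_smul, h1])).symm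

namespace Hyp

variable (h : Hyp G Ω)
include h

theorem card_mul_le {X : Set G} (h1 : ∀ x ∈ X, x • a = a ∧ 2 ∣ orderOf x) :
    Nat.card G * X.ncard ≤ ♯(stabilizer G a) * {x : G | 2 ∣ orderOf x}.ncard := by
  haveI := h.finite
  choose g hg using h.trans a
  rw [← card_mul_index (stabilizer G a), h.index_stab, mul_assoc, ← Set.ncard_univ Ω,
    ← Set.ncard_prod]
  refine Nat.mul_le_mul_left _ (Set.ncard_le_ncard_of_injOn (s := Set.univ ×ˢ X)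
    (t := {x : G | 2 ∣ orderOf x}) (fun p : Ω × G => g p.1 * p.2 * (g p.1)⁻¹)
    (fun p hp => (h1 _ hp.2).2.trans (orderOf_conj _ _).symm.dvd) (fun p hp q hq e => ?_)
    (Set.toFinite _))
  have key : ∀ c, ∀ x ∈ X, (g c * x * (g c)⁻¹) • c = c := fun c x hx => by
    nth_rw 3 [← hg c]; rw [conj_smul_smul, (h1 x hx).1, hg]
  have h2 := h.eq_of_even ((h1 _ hq.2).2.trans (orderOf_conj _ _).symm.dvd)
    ((congrArg (· • p.1) e).symm.trans (key _ _ hp.2)) (key _ _ hq.2)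
  exact Prod.ext h2 (by simpa [h2] using e)

theorem three_le (h3 : S3F G) (hz : z • a = a) (h1 : z ∉ 𝐂(A G a)) :
    3 * ♯(𝐂[z] ⊓ A G a) ≤ ♯(A G a) := by
  rw [← card_inf_mul_relIndex 𝐂[z] (A G a), mul_comm]
  refine Nat.mul_le_mul_left _ (by_contra fun e => h1 ?_)
  have h2 := relIndex_pos 𝐂[z] (A G a)
  by_cases e1 : (𝐂[z]).relIndex (A G a) = 1
  · exact le_cent1_iff.1 (relIndex_eq_one.1 e1)
  have h4 : z * z ∈ 𝐂(A G a) := mem_cent_iff_conj.2 fun t ht => by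
    have h5 := conj_mem_of_norm (stab_le_norm a hz) ht
    have h6 := mem_cent1_iff_conj.1 (mem_cent1_comm.1 ((ZN.mul_mem_iff_of_relIndex_two
      (H := 𝐂[z]) (by omega) ht h5).2 (mem_norm_iff.1 (le_norm_self _ (mem_cent1.2 rfl)) t)))
    rw [← conj_mul, ab_iff.1 (h.A_ab a) _ ht _ h5] at h6
    nth_rw 2 [← mul_left_cancel h6]; group
  haveI := (h.cent_normal a).subgroupOf
  obtain ⟨j, hj⟩ : Odd ((𝐂(A G a)).relIndex (stabilizer G a)) :=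
    Nat.not_even_iff_odd.1 fun e => h.odd_relIndex h3 le_rfl e.two_dvd
  have h5 : z ^ (𝐂(A G a)).relIndex (stabilizer G a) ∈ 𝐂(A G a) :=
    pow_index_mem (H := (𝐂(A G a)).subgroupOf (stabilizer G a)) ⟨z, hz⟩
  rwa [hj, pow_succ, pow_mul, pow_two, mul_mem_cancel_left (pow_mem h4 j)] at h5

theorem mem_sharp_iff (hs : s ∈ A G a) (s1 : s ≠ 1) (y : G) :
    y ∈ sharp (A G a) ↔ ∃ g ∈ stabilizer G a, g * s * g⁻¹ = y := by
  haveI := h.nontriv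
  obtain ⟨b, hab⟩ := exists_ne a
  obtain ⟨u, hu, e⟩ := h.exists_swap' hab.symm
  refine ⟨fun hy => ?_, ?_⟩
  · obtain ⟨k, hk, -, e⟩ := h.exists_conj hab.symm hu e hs s1 hy.1 hy.2
    exact ⟨k, hk.1, e⟩
  · rintro ⟨g, hg, rfl⟩
    exact conj_mem_sharp (stab_le_norm a hg) ⟨hs, s1⟩

theorem mem_invs (hs : s ∈ A G a) (s1 : s ≠ 1) (y : G) :
    y ∈ Invs G ↔ ∃ g ∈ (⊤ : Subgroup G), g * s * g⁻¹ = y := by
  refine ⟨fun hy => ?_, ?_⟩
  · obtain ⟨c, hc⟩ := h.ex y hy.2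
    obtain ⟨g, rfl⟩ := h.trans a c
    obtain ⟨k, -, e⟩ := (h.mem_sharp_iff (conj_mem_A hs g) (BSW.conj_ne_one s1) y).1
      ⟨h.mem_A.2 ⟨hc, hy.2⟩, hy.1⟩
    exact ⟨k * g, mem_top _, by rw [← e]; group⟩
  · rintro ⟨g, -, rfl⟩
    exact conj_mem_invs.2 ⟨s1, h.sq hs⟩

theorem ncard_invs (a : Ω) : (Invs G).ncard = Nat.card Ω * (♯(A G a) - 1) := by
  haveI := h.nontriv
  obtain ⟨b, hab⟩ := exists_ne a
  obtain ⟨s, hs, s1⟩ := h.exists_A a
  rw [← h.relIndex_cent hab.symm hs s1 inf_le_left le_rfl, ← h.index_stab a, mul_comm,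
    relIndex_mul_index (h.cent_le hs s1), ← relIndex_top_right, relIndex_centralizer_eq_ncard]
  congr 1
  exact Set.ext fun y => (h.mem_invs hs s1 y).trans
    ⟨fun ⟨g, h1, h2⟩ => ⟨g, h1, h2.symm⟩, fun ⟨g, h1, h2⟩ => ⟨g, h1, h2.symm⟩⟩

theorem apply_invs (hs : s ∈ A G a) (s1 : s ≠ 1) (hφ : φ ∈ CF ⊤) (hy : y ∈ Invs G) : φ y = φ s := by
  obtain ⟨g, hg, rfl⟩ := (h.mem_invs hs s1 y).1 hy
  exact cfunJ hφ hg s

theorem invSum_dirr (hs : s ∈ A G a) (s1 : s ≠ 1) (hφ : IsDirr ⊤ φ) :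
    φ 1 * invSum φ = ((Invs G).ncard * φ s) ^ 2 := by
  rw [ODD.invSum_dirr hφ, Finset.sum_congr rfl fun y hy =>
    h.apply_invs hs s1 hφ.mem_CF (mem_elts.1 hy), Finset.sum_const, card_elts_set, nsmul_eq_mul]

theorem invSum_ev (hs : s ∈ A G a) (s1 : s ≠ 1) (hφ : φ ∈ CF ⊤) (h0 : Ev φ) :
    invSum φ = (Invs G).ncard * ((♯(A G a) - 2) * φ s) := by
  classical
  rw [invSum, ← card_elts_set, ← nsmul_eq_mul, ← Finset.sum_const]
  refine Finset.sum_congr rfl fun v hv => ?_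
  have hv := mem_elts.1 hv
  obtain ⟨c, hc⟩ := h.ex v hv.2
  have h1 := h.mem_A.2 ⟨hc, hv.2⟩
  rw [← sum_elts_subset (A := sharp (A G c) \ {v}) (B := Invs G)
      fun u hu => ⟨hu.1.2, h.sq hu.1.1⟩,
    Finset.sum_congr rfl (g := fun _ => φ s), Finset.sum_const, card_elts_set,
    Set.ncard_diff_singleton_of_mem (show v ∈ sharp (A G c) from ⟨h1, hv.1⟩), ncard_sharp,
    nsmul_eq_mul, h.card_A c a, Nat.sub_sub, Nat.cast_sub (h.four a).le, Nat.cast_ofNat]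
  · intro u hu
    have hu := mem_elts.1 hu
    exact h.apply_invs hs s1 hφ ⟨fun e => hu.2 ((eq_inv_of_mul_eq_one_left e).trans (h.inv_eq h1)),
      h.sq (mul_mem hu.1.1 h1)⟩
  · intro u hu e
    by_cases e' : u = v
    · rw [e', hv.2, h0.one]
    obtain ⟨b, hb⟩ := h.ex u hu.2
    have h2 := h.mem_A.2 ⟨hb, hu.2⟩
    exact h0 _ (h.odd_mul (by rintro rfl; exact e ⟨⟨h2, hu.1⟩, e'⟩) h1 hv.1 h2 hu.1)

theorem ineq (hs : s ∈ A G a) (s1 : s ≠ 1) {d ρ : ℝ} (hd : 0 < d)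
    (hρ : ρ = ({x : G | 2 ∣ orderOf x}.ncard : ℝ) / Nat.card G)
    (deg : ∀ χ ∈ B0 2 (⊤ : Subgroup G), χ ≠ cf1 ⊤ → d ≤ ‖χ 1‖) :
    ρ - (♯(A G a) - 2) / (Invs G).ncard ≤
      √(ρ - ρ ^ 2) * (∑ χ ∈ B0 2 (⊤ : Subgroup G), ‖χ s‖ ^ 2) / d := by
  classical
  obtain ⟨f, hf⟩ : ∃ f, f = cf1 (⊤ : Subgroup G) - regInd 2 ⊤ := ⟨_, rfl⟩
  have f0 : f ∈ CF ⊤ := hf ▸ sub_mem (cf1_mem_CF _) regInd_mem_CF
  have f1 : Ev f := fun x hx => by
    rw [hf, Pi.sub_apply, cf1E (mem_top x), regInd_of_mem ⟨mem_top x, hx⟩, sub_self]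
  have f2 : ∀ x, 2 ∣ orderOf x → f x = 1 := fun x hx => by
    rw [hf, Pi.sub_apply, cf1E (mem_top x), regInd_of_not_mem fun e => e.2 hx, sub_zero]
  have f3 : ∀ ψ : G → ℂ, (∀ x, 2 ∣ orderOf x → ψ x = 1) → ⟪f, ψ⟫[⊤] = ρ := fun ψ e => by
    rw [cfdotEl (A := {x | 2 ∣ orderOf x}) (fun x _ => mem_top x) (fun x hx => f1 x hx),
      Finset.sum_congr rfl (g := fun _ => 1) fun x hx => by
        have hx := mem_elts.1 hx
        rw [f2 x hx, e x hx, map_one, mul_one],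
      Finset.sum_const, card_elts_set, card_top, hρ]
    simp [div_eq_inv_mul]
  have f4 := f3 _ fun x _ => cf1E (mem_top x)
  have f5 : ∀ χ ∈ (Irr ⊤).erase (cf1 ⊤), χ ∉ B0 2 (⊤ : Subgroup G) → ⟪f, χ⟫[⊤] = 0 :=
    fun χ e e' => by
      obtain ⟨e1, e2⟩ := Finset.mem_erase.1 e
      rw [cfdotC, hf, cfdotBr, cfdot_irr_ne (mem_Irr.1 e2) (isIrr_cf1 _) e1, cfdotC, cfdotE]
      simp only [sum_regInd_mul, ← map_sum, not_not.1 (mt (fun e => mem_B0.2 ⟨mem_Irr.1 e2, e⟩) e')]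
      simp
  have f6 : ∀ χ ∈ (Irr ⊤).erase (cf1 ⊤), ‖⟪f, χ⟫[⊤]‖ ≤ √(ρ - ρ ^ 2) := fun χ e => by
    have := cfnorm_sum_irr f0
    rw [cfnorm_eq_of_cfdot (f3 f f2), ← Finset.add_sum_erase _ _ (mem_Irr.2 (isIrr_cf1 _)), f4,
      Complex.norm_real, Real.norm_eq_abs, sq_abs] at this
    exact Real.le_sqrt_of_sq_le (le_sub_iff_add_le'.2 ((add_le_add_right (Finset.single_le_sum
      (f := fun χ => ‖⟪f, χ⟫[⊤]‖ ^ 2) (fun _ _ => sq_nonneg _) e) _).trans_eq this.symm))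
  have hI : (0 : ℝ) < (Invs G).ncard := Nat.cast_pos.2
    ((Set.ncard_pos (Set.toFinite _)).2 ⟨s, s1, h.sq hs⟩)
  have e1 := h.invSum_ev hs s1 f0 f1
  have e2 := h.invSum_dirr hs s1 (isIrr_cf1 (⊤ : Subgroup G)).isDirr
  rw [cf1_one, one_mul, cf1E (mem_top s), mul_one] at e2
  rw [f2 s (orderOf_eq_prime (p := 2) (by rw [pow_two, h.sq hs]) s1).symm.dvd, mul_one,
    cfun_sum_cfdot f0, invSum_sum, ← Finset.add_sum_erase _ _ (mem_Irr.2 (isIrr_cf1 _)),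
    invSum_smul, f4, e2, ← Finset.sum_subset (s₁ := (B0 2 ⊤).erase (cf1 ⊤))
      (Finset.erase_subset_erase _ B0_subset) fun χ e e' => by
        rw [f5 χ e fun e1 => e' (Finset.mem_erase.2 ⟨(Finset.mem_erase.1 e).1, e1⟩), invSum_smul,
          zero_mul]] at e1
  have e3 : ‖∑ χ ∈ (B0 2 ⊤).erase (cf1 ⊤), invSum (⟪f, χ⟫[⊤] • χ)‖ ≤
      ∑ χ ∈ B0 2 (⊤ : Subgroup G), √(ρ - ρ ^ 2) * ((Invs G).ncard ^ 2 * ‖χ s‖ ^ 2 / d) := by
    refine (norm_sum_le _ _).trans ((Finset.sum_le_sum fun χ e => ?_).trans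
      (Finset.sum_le_sum_of_subset_of_nonneg (Finset.erase_subset _ _) fun _ _ _ => by positivity))
    obtain ⟨e3, e4⟩ := Finset.mem_erase.1 e
    have e5 := congrArg norm (h.invSum_dirr hs s1 (isIrr_of_mem_B0 e4).isDirr)
    rw [norm_mul, norm_pow, norm_mul, Complex.norm_natCast, mul_pow] at e5
    rw [invSum_smul, norm_mul]
    refine mul_le_mul (f6 χ (Finset.mem_erase.2 ⟨e3, B0_subset e4⟩)) ((le_div_iff₀' hd).2 ?_)
      (norm_nonneg _) (Real.sqrt_nonneg _)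
    exact e5 ▸ mul_le_mul_of_nonneg_right (deg χ e4 e3) (norm_nonneg _)
  rw [eq_sub_of_add_eq' e1, norm_sub_rev, ← Finset.mul_sum, ← Finset.sum_div,
    ← Finset.mul_sum] at e3
  have e4 := (Complex.re_le_norm _).trans e3
  rw [show (ρ : ℂ) * ((Invs G).ncard : ℂ) ^ 2 - (Invs G).ncard * (♯(A G a) - 2) =
    (ρ * (Invs G).ncard ^ 2 - (Invs G).ncard * (♯(A G a) - 2) : ℝ) by simp, Complex.ofReal_re] at e4
  refine le_of_mul_le_mul_left (le_of_eq_of_le ?_ (e4.trans_eq ?_)) (pow_pos hI 2)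
  · field_simp
  · ring

end Hyp

theorem Fr.count (h : Fr G a b u K) (h3 : S3F G) (hs : s ∈ A G a) (s1 : s ≠ 1) :
    3 * (♯K * (♯𝐂[s] - ♯𝐂(A G a))) ≤
      ♯(A G a) * {x | (x • a = a ∧ 2 ∣ orderOf x) ∧ x ∉ 𝐂(A G a)}.ncard := by
  classical
  have hC := h.cent_normal a
  have s2 : orderOf s = 2 := orderOf_eq_prime (by rw [pow_two, h.sq hs]) s1
  have h1 : ∀ x ∈ 𝐂[s], ¬ 2 ∣ orderOf x → constt {2} (s * x) = s := fun x hx e =>
    constt_eq_of_mul (by rw [PiElt, s2]; exact (isPiNum_prime Nat.prime_two).2 rfl)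
      (fun p hp hd e' => e (Set.mem_singleton_iff.1 e' ▸ hd)) (mem_cent1.1 hx).symm
  have h2 : ∀ k ∈ K, ∀ x ∈ stabilizer G a, x ∉ 𝐂(A G a) → k * x * k⁻¹ ∉ 𝐂(A G a) :=
    fun k hk x hx e e' => e ((mem_norm_iff.1 (hC.norm (h.K_le' hk)) x).2 e')
  rw [← card_elts, ← card_elts (H := 𝐂[s]), ← card_elts (H := 𝐂(A G a)),
    ← Finset.card_sdiff_of_subset fun x hx => mem_elts.2 (cent_le_cent1 hs (mem_elts.1 hx)),
    ← Finset.card_product, ← card_elts_set]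
  refine (Nat.mul_le_mul_left 3 (Finset.card_le_mul_card_image_of_maps_to
    (f := fun p => p.1 * (if 2 ∣ orderOf p.2 then p.2 else s * p.2) * p.1⁻¹)
    (fun p hp => mem_elts.2 ?_) (♯(A G a) / 3) fun z hz => ?_)).trans
    (mul_assoc 3 _ _ ▸ Nat.mul_le_mul_right _ (Nat.mul_div_le _ _))
  · obtain ⟨e1, e2⟩ := Finset.mem_product.1 hp
    obtain ⟨e2, e3⟩ := Finset.mem_sdiff.1 e2
    rw [mem_elts] at e1 e2 e3
    have e4 := h.cent_le hs s1 e2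
    have e5 := h.K_le' e1
    split_ifs with e
    · exact ⟨⟨mul_mem (mul_mem e5 e4) (inv_mem e5), by rwa [orderOf_conj]⟩, h2 _ e1 _ e4 e3⟩
    · have e6 := mul_mem (h.A_le a hs) e4
      exact ⟨⟨mul_mem (mul_mem e5 e6) (inv_mem e5), by
        rw [orderOf_conj, ← s2]
        exact orderOf_dvd_of_mem_zpowers (h1 _ e2 e ▸ constt_mem_zpowers {2} (s * p.2) :)⟩, h2 _ e1 _ e6 fun e7 =>
          e3 ((mul_mem_cancel_left (Ab.le_cent (h.A_ab a) hs)).1 e7)⟩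
  have hz := mem_elts.1 hz
  refine le_trans ?_ ((Nat.le_div_iff_mul_le three_pos).2 (mul_comm 3 _ ▸ h.three_le h3 hz.1.1 hz.2))
  rw [← card_elts]
  refine Finset.card_le_card_of_injOn (fun p => if 2 ∣ orderOf p.2 then p.1 * s * p.1⁻¹ else 1)
    (fun p hp => mem_elts.2 ?_) fun p hp q hq e => ?_
  · obtain ⟨e1, e⟩ := Finset.mem_filter.1 hp
    obtain ⟨e1, e2⟩ := Finset.mem_product.1 e1
    dsimp only
    split_ifs at e ⊢
    · exact ⟨mem_cent1.2 (by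
        rw [← e, conj_mul, conj_mul, mem_cent1.1 (mem_elts.1 (Finset.mem_sdiff.1 e2).1)]),
        conj_mem_of_norm (stab_le_norm a (h.K_le' (mem_elts.1 e1))) hs⟩
    · exact one_mem _
  obtain ⟨e1, e2⟩ := Finset.mem_filter.1 hp
  obtain ⟨e3, e4⟩ := Finset.mem_filter.1 hq
  obtain ⟨e1, e5⟩ := Finset.mem_product.1 e1
  obtain ⟨e3, e6⟩ := Finset.mem_product.1 e3
  replace e2 := e2.trans e4.symm
  have key := (h.rg hs s1).eq (mem_elts.1 e1) (mem_elts.1 e3)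
  dsimp only at e
  split_ifs at e e2 with c1 c2 c2
  · exact Prod.ext (key e) (by simpa [key e] using e2)
  · exact (BSW.conj_ne_one s1 e).elim
  · exact (BSW.conj_ne_one s1 e.symm).elim
  · have := congrArg (constt {2}) e2
    rw [constt_conj, constt_conj, h1 _ (mem_elts.1 (Finset.mem_sdiff.1 e5).1) c1,
      h1 _ (mem_elts.1 (Finset.mem_sdiff.1 e6).1) c2] at this
    exact Prod.ext (key this) (by simpa [key this] using e2)

end Cfsg.Agent.SZ
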