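import Cfsg.Agent.Lib.SZ.ClaimB
import Cfsg.Agent.Lib.SEA.Two

/-!
# Double transitivity and the cyclic group `K`
-/

set_option autoImplicit false
set_option linter.unusedSectionVars false

namespace Cfsg.Agent.SZ

open Subgroup MulAction Cfsg.Agent.Coprime Cfsg.Agent.OO Cfsg.Agent.SEA
open scoped Pointwise

universe u v

variable {G : Type u} {Ω : Type v} [Group G] [MulAction G Ω] [Finite G]
  {a b c : Ω} {d g k s t u w x y : G} {H K L P S X : Subgroup G} {p n : ℕ}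

namespace Hyp

variable (h : Hyp G Ω)
include h

theorem exists_card (a : Ω) : ∃ n, 2 ≤ n ∧ ♯(A G a) = 2 ^ n := by
  obtain ⟨n, hn⟩ := (h.A_two a).exists_card_eq
  have := h.four a
  refine ⟨n, ?_, hn⟩
  rcases n with _ | _ | n <;> simp_all

theorem odd_m (a : Ω) : ¬ 2 ∣ ♯(A G a) - 1 := by
  obtain ⟨n, h1, h2⟩ := h.exists_card a
  obtain ⟨n, rfl⟩ : ∃ k, n = k + 1 := ⟨n - 1, by omega⟩
  have := card_pos' (A G a)
  omega

theorem four_le (a : Ω) : 4 ≤ ♯(A G a) := by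
  have := h.odd_m a
  have := h.four a
  omega

theorem cent_A_le (a : Ω) : 𝐂(A G a) ≤ stabilizer G a :=
  let ⟨_, hs, s1⟩ := h.exists_A a
  (cent_le_cent1 hs).trans (h.cent_le hs s1)

theorem exists_two (a : Ω) : ∃ s ∈ A G a, ∃ t ∈ A G a, s ≠ 1 ∧ t ≠ 1 ∧ s ≠ t := by
  have := h.four a
  rw [← SetLike.coe_sort_coe, Nat.card_coe_set_eq] at this
  obtain ⟨x, hx, y, hy, z, hz, h1, h2, h3⟩ := (Set.two_lt_ncard (Set.toFinite _)).1 this
  by_cases e : x = 1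
  · exact ⟨y, hy, z, hz, e ▸ h1.symm, e ▸ h2.symm, h3⟩
  by_cases e' : y = 1
  · exact ⟨x, hx, z, hz, e, e' ▸ h3.symm, h2⟩
  · exact ⟨x, hx, y, hy, e, e', h1⟩

theorem not_big [Fact p.Prime] (hab : a ≠ b) (hp : p ∣ ♯(A G a) - 1) (hP : Syl p P (D G a b)) :
    ¬ Big Ω P := fun e => by
  obtain ⟨s, hs, s1, e'⟩ := h.good (by rintro rfl; exact h.odd_m a hp) P hP.isPGroup e a
    (hP.le.trans inf_le_left)
  exact hP.not_dvd ((h.relIndex_cent hab hs s1 le_rfl inf_le_left ▸ hp).trans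
    (relIndex_dvd_of_le_left _ (le_cent1_iff.2 e')))

theorem syl_stab [Fact p.Prime] (hab : a ≠ b) (hp : p ∣ ♯(A G a) - 1) (hP : Syl p P (D G a b)) :
    Syl p P (stabilizer G a) :=
  .of_syl_norm (hP.le.trans inf_le_left) (hP.mono (le_inf (hP.le.trans inf_le_left)
    (le_norm_self P)) (norm_le_of_not_big (h.not_big hab hp hP) hP.le hab))

theorem two_trans (hab : a ≠ b) (hac : a ≠ c) : ∃ g ∈ stabilizer G a, g • b = c := by
  obtain ⟨p, hp, hd⟩ := Nat.exists_prime_and_dvd (n := ♯(A G a) - 1) (by have := h.four a; omega)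
  haveI := Fact.mk hp
  obtain ⟨P, hP⟩ := exists_syl p (D G a b)
  obtain ⟨Q, hQ⟩ := exists_syl p (D G a c)
  obtain ⟨g, hg, rfl⟩ := (h.syl_stab hab hd hP).exists_conj' (h.syl_stab hac hd hQ)
  refine ⟨g, hg, (eq_or_eq_of_not_big (h.not_big hac hd hQ) (hQ.le.trans inf_le_left)
    (hQ.le.trans inf_le_right) hac (conj_stab g b ▸ conj_mono g
      (hP.le.trans inf_le_right))).resolve_left fun e => hab ?_⟩
  exact smul_left_cancel g ((mem_stabilizer_iff.1 hg).trans e.symm)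

/-- an element of prime power order with three fixed points centralizes involutions -/
theorem good_elt (hp : p.Prime) (hx : PiElt {p} x) (hab : a ≠ b) (hac : a ≠ c) (hbc : b ≠ c)
    (h1 : x ∈ D G a b) (h2 : x • c = c) {e : Ω} (he : x • e = e) :
    ∃ s ∈ A G e, s ≠ 1 ∧ s ∈ 𝐂[x] := by
  haveI := Fact.mk hp
  by_cases x1 : x = 1
  · obtain ⟨s, hs, s1⟩ := h.exists_A e
    exact ⟨s, hs, s1, by simp [x1, mem_cent1]⟩
  have := h.good (p := p) (by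
    rintro rfl
    exact h.odd_of_mem_D hab h1 (Nat.card_zpowers x ▸ dvd_card_of_isPGroup
      (isPGroup_zpowers_iff.2 hx) (zpowers_ne_bot.2 x1))) _ (isPGroup_zpowers_iff.2 hx)
    (big_of (zpowers_le.2 h1.1) (zpowers_le.2 h1.2) (zpowers_le.2 h2) hab hac hbc) e
    (zpowers_le.2 he)
  rwa [Good, cent_zpowers] at this

theorem A_le_of_mem (hab : a ≠ b) (h1 : A G a ≤ H) (ht : t ∈ A G b) (t1 : t ≠ 1) (h2 : t ∈ H) :
    A G b ≤ H := by
  obtain ⟨s, hs, s1⟩ := h.exists_A a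
  obtain ⟨w, -, e, -, h3⟩ := h.exists_swap hab hs s1 ht t1
  rw [← e, ← conj_A]
  exact conj_le_of_mem (h3 H (h1 hs) h2) h1

theorem cent_A (hab : a ≠ b) (hx : x ∈ D G a b) (h1 : x ∈ 𝐂(A G a)) : x ∈ 𝐂(A G b) :=
  mem_of_forall_constt_mem fun p hp _ => by
    obtain ⟨s, hs, s1⟩ := h.exists_A a
    have h2 := constt_mem {p} hx
    have h3 := constt_mem {p} h1
    obtain ⟨t, ht, t1, e⟩ := h.good_elt hp (piElt_constt {p} x) hab (h.smul_ne' hs hab)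
      (h.smul_ne hs s1 hab).symm h2 (by
        rw [← mul_smul, ← mem_cent_iff.1 h3 s hs, mul_smul, h2.2]) h2.2
    exact le_cent1_iff.1 (h.A_le_of_mem hab (le_cent1_iff.2 h3) ht t1 e)

theorem W_comm (hab : a ≠ b) : D G a b ⊓ 𝐂(A G a) = D G a b ⊓ 𝐂(A G b) :=
  le_antisymm (fun _ hx => ⟨hx.1, h.cent_A hab hx.1 hx.2⟩)
    fun _ hx => ⟨hx.1, h.cent_A hab.symm ⟨hx.1.2, hx.1.1⟩ hx.2⟩

theorem W_cent (hab : a ≠ b) (hx : x ∈ D G a b ⊓ 𝐂(A G a)) (hw : w * w = 1) (e : w • a = b) :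
    x * w * x⁻¹ = w :=
  let ⟨_, hs, s1⟩ := h.exists_A a
  h.conj_swap_eq hab hs s1 hx.1 hx.2 (h.cent_A hab hx.1 hx.2) hw e

theorem A_le_syl (hS : Syl 2 S H) (h1 : A G a ≤ H) (h2 : H ≤ stabilizer G a) : A G a ≤ S :=
  hS.le_of_normal ((h.A_normal a).mono h1 h2) (h.A_two a)

end Hyp

variable (G) in
/-- `u` swaps `a, b` and `K` is the set of elements of the two point stabilizer inverted by `u` -/
structure Fr (a b : Ω) (u : G) (K : Subgroup G) : Prop extends Hyp G Ω where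
  ne : a ≠ b
  u2 : u * u = 1
  ua : u • a = b
  mem_K : ∀ {k}, k ∈ K ↔ k ∈ D G a b ∧ u * k * u⁻¹ = k⁻¹
  cyc : IsCyclic K
  der_le : ∀ s ∈ A G a, s ≠ 1 → der (D G a b) ⊓ 𝐂[s] ≤ 𝐂(A G a)

theorem Pre.inverted_inj (h : Pre G Ω) (hab : a ≠ b) (hu : u * u = 1) (e : u • a = b)
    (hs : s ∈ A G a) (s1 : s ≠ 1) (hk : k ∈ D G a b) (h1 : u * k * u⁻¹ = k⁻¹) (hd : d ∈ D G a b)
    (h2 : u * d * u⁻¹ = d⁻¹) (e' : k * s * k⁻¹ = d * s * d⁻¹) : k = d :=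
  mul_left_cancel (h.swap_inj hab hs s1 (mul_swap hu e hk h1).1 (mul_swap hu e hk h1).2
    (mul_swap hu e hd h2).1 (mul_swap hu e hd h2).2 (by
      rw [show u * k * s * (u * k)⁻¹ = u * (k * s * k⁻¹) * u⁻¹ by group, e']; group))

theorem Hyp.exists_fr (h : Hyp G Ω) (hab : a ≠ b) (hu : u * u = 1) (e : u • a = b) :
    ∃ K, Fr G a b u K := by
  obtain ⟨n, -, hn⟩ := h.exists_card a
  obtain ⟨T, f, hT⟩ := exists_lin (L := D G a b) (h.abelem a) (fun e => by simpa [e] using h.four a)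
    (inf_le_left.trans (stab_le_norm a)) (fun e => h.odd_D hab (e.trans (relIndex_dvd_card _ _))) hn
    fun s hs s1 t ht t1 => let ⟨k, hk, _, e⟩ := h.exists_conj hab hu e hs s1 ht t1; ⟨k, hk, e⟩
  have hN := (normalIn_inf_cent hT.norm).norm
  have h1 : u ∈ 𝐍(D G a b ⊓ 𝐂(A G a)) := cent_le_norm _ (mem_cent_iff.2 fun x hx =>
    mul_inv_eq_iff_eq_mul.1 (h.W_cent hab hx hu e))
  have h2 : ∀ k ∈ D G a b, u * k * u⁻¹ = k⁻¹ → k ∈ T := fun k hk e' => by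
    have e1 : (k * u)⁻¹ * (u * k) = k * k := by
      nth_rw 3 [← inv_inv k]; rw [← e', BSW.inv_eq_of_mul_self hu, mul_inv_rev, mul_inv_rev,
        mul_inv_rev, BSW.inv_eq_of_mul_self hu]
      simp only [mul_assoc]
    have := hT.mem_of_comm h1 (hT.mem_norm (swap_norm hu e) h1) (hN hk) (hT.normal.norm hk)
      (e1 ▸ mul_mem hk hk)
    obtain ⟨j, hj⟩ := exists_sqrt (h.odd_of_mem_D hab hk)
    rw [← hj, ← (Commute.refl k).mul_pow]
    exact pow_mem (e1 ▸ this) j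
  obtain ⟨s, hs, s1⟩ := h.exists_A a
  obtain ⟨k, hk, h3, h4⟩ := h.exists_conj hab hu e hs s1
    (conj_mem_of_norm (hT.norm (hT.le hT.f_mem)) hs) (BSW.conj_ne_one s1)
  have h5 := mem_cent_iff_conj.1 (hT.semireg _ (mul_mem (inv_mem hT.f_mem) (h2 k hk h3)) s hs s1 (by
    rw [mul_assoc, mul_inv_eq_iff_eq_mul.1 h4]; group))
  have h6 : ∀ i : ℕ, ∀ t ∈ A G a, k ^ i * t * (k ^ i)⁻¹ = f ^ i * t * (f ^ i)⁻¹ := fun i => by
    induction i with
    | zero => simp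
    | succ i ih =>
      intro t ht
      calc _ = k ^ i * (k * t * k⁻¹) * (k ^ i)⁻¹ := by group
        _ = f ^ i * (f * (f⁻¹ * k * t * (f⁻¹ * k)⁻¹) * f⁻¹) * (f ^ i)⁻¹ := by
          rw [ih _ (conj_mem_of_norm (hT.norm hk) ht)]; group
        _ = _ := by rw [h5 t ht]; group
  refine ⟨zpowers k, h, hab, hu, e, fun {x} => ⟨?_, fun hx => ?_⟩, inferInstance,
    fun t ht t1 x hx => hT.semireg x (hT.der_le hx.1) t ht t1 (mem_cent1.1 hx.2)⟩
  · rintro ⟨i, rfl⟩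
    exact ⟨zpow_mem hk i, by rw [← conj_zpow, h3, inv_zpow]⟩
  · obtain ⟨i, hi⟩ := hT.gen x (h2 x hx.1 hx.2)
    rw [h.inverted_inj hab hu e hs s1 hx.1 hx.2 (pow_mem hk i) (by rw [← conj_pow, h3, inv_pow])
      (by rw [h6 i s hs]; nth_rw 2 [← mem_cent_iff_conj.1 hi s hs]; group)]
    exact pow_mem (mem_zpowers k) i

namespace Fr

variable (h : Fr G a b u K)
include h

theorem ub : u • b = a := swap h.u2 h.ua

theorem K_le : K ≤ D G a b := fun _ hk => (h.mem_K.1 hk).1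

theorem inv (hk : k ∈ K) : u * k * u⁻¹ = k⁻¹ := (h.mem_K.1 hk).2

theorem mul_mem_K (hw : w * w = 1) (e : w • a = b) : u * w ∈ K :=
  h.mem_K.2 ⟨mul_mem_D h.u2 h.ua hw e, by
    rw [mul_inv_rev, BSW.inv_eq_of_mul_self hw, ← mul_assoc, h.u2, one_mul]⟩

theorem norm_K : D G a b ≤ 𝐍(K) := le_norm_iff.2 fun d hd k hk => by
  have key : ∀ w : G, w * w = 1 → w • a = b → u * (d * w * d⁻¹) ∈ K := fun w hw e =>
    h.mul_mem_K (BSW.conj_mul_self hw) (by nth_rw 1 [← hd.1]; rw [conj_smul_smul, e, hd.2])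
  have h1 := mul_swap h.u2 h.ua (h.K_le hk) (h.inv hk)
  have := mul_mem (inv_mem (key u h.u2 h.ua)) (key _ h1.1 h1.2)
  rwa [show (u * (d * u * d⁻¹))⁻¹ * (u * (d * (u * k) * d⁻¹)) = d * k * d⁻¹ by group] at this

theorem eq_one (hk : k ∈ K) (hs : s ∈ A G a) (s1 : s ≠ 1) (e : s * k = k * s) : k = 1 :=
  h.eq_one_of_inverted h.u2 (h.ua.symm ▸ h.ne.symm) (h.odd_of_mem_D h.ne (h.K_le hk)) (h.inv hk)
    hs s1 e

theorem exists_K (hs : s ∈ A G a) (s1 : s ≠ 1) (ht : t ∈ A G a) (t1 : t ≠ 1) :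
    ∃ k ∈ K, k * s * k⁻¹ = t :=
  let ⟨k, h1, h2, h3⟩ := h.exists_conj h.ne h.u2 h.ua hs s1 ht t1
  ⟨k, h.mem_K.2 ⟨h1, h2⟩, h3⟩

theorem card_K : ♯K = ♯(A G a) - 1 := by
  obtain ⟨s, hs, s1⟩ := h.exists_A a
  have h1 := card_inf_mul_relIndex 𝐂[s] K
  rw [show 𝐂[s] ⊓ K = ⊥ from eq_bot_iff.2 fun k hk => h.eq_one hk.2 hs s1 (mem_cent1.1 hk.1).symm,
    card_bot, one_mul, relIndex_centralizer_eq_ncard] at h1
  rw [← h1, ← ncard_sharp]
  congr 1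
  refine Set.ext fun v => ⟨?_, fun hv => ?_⟩
  · rintro ⟨l, hl, rfl⟩
    exact conj_mem_sharp (stab_le_norm a (h.K_le hl).1) ⟨hs, s1⟩
  · obtain ⟨k, hk, e⟩ := h.exists_K hs s1 hv.1 hv.2
    exact ⟨k, hk, e.symm⟩

/-- nontrivial elements of `K` fix only `a` and `b` -/
theorem eq_one_of_fix (hk : k ∈ K) (hac : a ≠ c) (hbc : b ≠ c) (e : k • c = c) : k = 1 :=
  mem_bot.1 (mem_of_forall_constt_mem fun p hp _ => by
    have h1 := constt_mem {p} hk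
    obtain ⟨s, hs, s1, e'⟩ := h.good_elt hp (piElt_constt {p} k) h.ne hac hbc (h.K_le h1)
      (constt_mem (H := stabilizer G c) {p} e) (h.K_le h1).1
    exact h.eq_one h1 hs s1 (mem_cent1.1 e'))

theorem cent_K (hk : k ∈ K) (k1 : k ≠ 1) (hy : y • a = a) (e : y * k = k * y) : y ∈ D G a b :=
  ⟨hy, by_contra fun e' => k1 (h.eq_one_of_fix hk
    (fun e1 => h.ne (smul_left_cancel y (hy.trans e1))) (Ne.symm e')
    (by rw [← mul_smul, ← e, mul_smul, (h.K_le hk).2]))⟩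

theorem W_cent_K (hx : x ∈ D G a b ⊓ 𝐂(A G a)) (hk : k ∈ K) : x * k * x⁻¹ = k := by
  have h1 := mul_swap h.u2 h.ua (h.K_le hk) (h.inv hk)
  have h2 := h.W_cent h.ne hx h1.1 h1.2
  rw [show x * (u * k) * x⁻¹ = x * u * x⁻¹ * (x * k * x⁻¹) by group,
    h.W_cent h.ne hx h.u2 h.ua] at h2
  exact mul_left_cancel h2

theorem orderOf_dvd (hk : k ∈ K) : orderOf k ∣ ♯(A G a) - 1 := h.card_K ▸ orderOf_dvd_card hk

/-- a `p`-subgroup of the stabilizer of `a` containing a nontrivial element of `K` -/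
theorem le_D_of_mem [Fact p.Prime] (hk : k ∈ K) (k1 : k ≠ 1) (hX : IsPGroup p X) (h1 : k ∈ X)
    (h2 : X ≤ stabilizer G a) : X ≤ D G a b ∧ stabilizer G a ⊓ 𝐍(X) ≤ D G a b := by
  have key : ∀ g ∈ stabilizer G a, k • g • b = g • b → g • b = b := fun g hg e => by_contra fun e' =>
    k1 (h.eq_one_of_fix hk (fun e1 => h.ne (smul_left_cancel g (hg.trans e1))) (Ne.symm e') e)
  obtain ⟨P, hP⟩ := exists_syl p (D G a b)
  obtain ⟨g, hg, h3⟩ := (h.syl_stab h.ne ((Nat.card_zpowers k ▸ dvd_card_of_isPGroup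
    (hX.to_le (zpowers_le.2 h1)) (zpowers_ne_bot.2 k1)).trans (h.orderOf_dvd hk))
    hP).exists_le_conj' h2 hX
  have h4 := h3.trans (conj_mono g (hP.le.trans inf_le_right))
  rw [conj_stab] at h4
  rw [key g hg (h4 h1)] at h4
  exact ⟨le_inf h2 h4, fun n hn => ⟨hn.1, key n hn.1 (smul_fix_of_norm hn.2 h4 h1)⟩⟩

theorem frattini (hL : L ⊴ H) (hH : H ≤ stabilizer G a) (hk : k ∈ K) (k1 : k ≠ 1) (h1 : k ∈ L)
    (hg : g ∈ H) : ∃ l ∈ L, ∃ d ∈ D G a b, l * d = g := by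
  obtain ⟨j, hj, hp⟩ := exists_prime_order_mem (zpowers_ne_bot.2 k1)
  haveI := Fact.mk hp
  obtain ⟨X, hX, h2⟩ := exists_syl_ge (p := orderOf j) (zpowers_le.2 (zpowers_le.2 h1 hj))
    (.of_card ((Nat.card_zpowers j).trans (pow_one _).symm))
  obtain ⟨l, hl, d, hd, e⟩ := (hX.frattini hL).mem_iff.1 hg
  exact ⟨l, hl, d, (h.le_D_of_mem (zpowers_le.2 hk hj) (mt orderOf_eq_one_iff.2 hp.ne_one) hX.isPGroup
    (zpowers_le.1 h2) (hX.le.trans (hL.le.trans hH))).2 ⟨hH hd.1, hd.2⟩, e⟩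

end Fr

end Cfsg.Agent.SZ
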